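import Cfsg.Agent.UGT.L34.Facts

/-!
# 2-groups acting on `L₃(4)`

`ψ : T → E` with kernel `Q`, `P ≤ T` mapped isomorphically onto the inner part `U` of `E`, `[P, Q] = 1`.

* `Mod.not_fusion` : no automorphism of `T` maps `b` to `b a`, `1 ≠ a ∈ Q` (`b ∈ P` the central involution).
-/

set_option autoImplicit false

open Subgroup

namespace Cfsg.Agent.UGT.L34

variable {T : Type*} [Group T]

/-- `ψ : T → E` maps `P` isomorphically onto `U` and its kernel centralizes `P`. -/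
structure Mod (ψ : T →* E) (P : Subgroup T) : Prop where
  mem : ∀ p ∈ P, ψ p ∈ U
  surj : ∀ u ∈ U, ∃ p ∈ P, ψ p = u
  inj : ∀ p ∈ P, ψ p = 1 → p = 1
  comm : ∀ p ∈ P, ∀ q, ψ q = 1 → p * q = q * p
  norm : ∀ t, ∀ p ∈ P, t * p * t⁻¹ ∈ P

theorem card_eq_inf_mul_map {X Y : Type*} [Group X] [Group Y] [Finite X] (ψ : X →* Y) (V : Subgroup X) :
    Nat.card V = Nat.card (V ⊓ ψ.ker : Subgroup X) * Nat.card (V.map ψ) := by
  have h1 := (Subgroup.card_eq_card_quotient_mul_card_subgroup (ψ.comp V.subtype).ker)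
  have h2 : Nat.card (V ⧸ (ψ.comp V.subtype).ker) = Nat.card (V.map ψ) := by
    rw [Nat.card_congr (QuotientGroup.quotientKerEquivRange (ψ.comp V.subtype)).toEquiv]
    congr 1
    rw [MonoidHom.range_eq_map, ← Subgroup.map_map, ← MonoidHom.range_eq_map, Subgroup.range_subtype]
  have h5 : Nat.card (ψ.comp V.subtype).ker = Nat.card (V ⊓ ψ.ker : Subgroup X) := by
    have e : (V ⊓ ψ.ker : Subgroup X) = ((ψ.comp V.subtype).ker).map V.subtype := by
      ext x
      rw [mem_inf, mem_map]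
      constructor
      · rintro ⟨h1, h2⟩
        exact ⟨⟨x, h1⟩, h2, rfl⟩
      · rintro ⟨⟨y, hy⟩, h1, rfl⟩
        exact ⟨hy, h1⟩
    rw [e, card_map_of_injective V.subtype_injective]
  rw [h1, h5, h2, mul_comm]

section

variable {ψ : T →* E} {P : Subgroup T}

theorem Mod.split (M : Mod ψ P) {t : T} (ht : ψ t ∈ U) : ∃ p ∈ P, ∃ q, ψ q = 1 ∧ t = p * q := by
  obtain ⟨p, hp, h⟩ := M.surj _ ht
  refine ⟨p, hp, p⁻¹ * t, ?_, ?_⟩
  · rw [map_mul, map_inv, h, inv_mul_cancel]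
  · rw [mul_inv_cancel_left]

theorem Mod.ext (M : Mod ψ P) {p p' : T} (hp : p ∈ P) (hp' : p' ∈ P) (h : ψ p = ψ p') : p = p' := by
  have h1 := M.inj (p * p'⁻¹) (P.mul_mem hp (P.inv_mem hp')) (by rw [map_mul, map_inv, h, mul_inv_cancel])
  exact mul_inv_eq_one.mp h1

/-- squares of `p q` -/
theorem Mod.sq_split (M : Mod ψ P) {p q : T} (hp : p ∈ P) (hq : ψ q = 1) (h : (p * q) * (p * q) = 1) :
    p * p = 1 ∧ q * q = 1 := by
  have h1 := M.comm p hp q hq
  have h2 : (p * p) * (q * q) = 1 := by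
    rw [← h]
    calc p * p * (q * q) = p * (p * q) * q := by group
      _ = p * (q * p) * q := by rw [h1]
      _ = _ := by group
  have h3 : p * p = 1 := by
    apply M.inj _ (P.mul_mem hp hp)
    have := congrArg ψ h2
    rwa [map_mul ψ (p * p), map_mul ψ q, hq, mul_one, mul_one, map_one] at this
  rw [h3, one_mul] at h2
  exact ⟨h3, h2⟩

/-- adjoin an involution to an elementary abelian subgroup -/
theorem exists_adjoin {X : Type*} [Group X] {F : Subgroup X} (hF : Elem F) {q : X} (hq : q * q = 1)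
    (hc : ∀ f ∈ F, q * f = f * q) : ∃ F' : Subgroup X, F ≤ F' ∧ q ∈ F' ∧ Elem F' ∧
      ∀ y ∈ F', y ∈ F ∨ ∃ f ∈ F, y = q * f := by
  have hqi : q⁻¹ = q := inv_eq_of_mul_eq_one_left hq
  let F' : Subgroup X :=
    { carrier := {y | y ∈ F ∨ ∃ f ∈ F, y = q * f}
      mul_mem' := by
        rintro y z (hy | ⟨f, hf, rfl⟩) (hz | ⟨f', hf', rfl⟩)
        · exact Or.inl (F.mul_mem hy hz)
        · refine Or.inr ⟨y * f', F.mul_mem hy hf', ?_⟩
          rw [← mul_assoc, ← hc y hy, mul_assoc]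
        · exact Or.inr ⟨f * z, F.mul_mem hf hz, by rw [mul_assoc]⟩
        · refine Or.inl ?_
          have : q * f * (q * f') = (q * q) * (f * f') := by
            calc q * f * (q * f') = q * (f * q) * f' := by group
              _ = q * (q * f) * f' := by rw [hc f hf]
              _ = _ := by group
          rw [this, hq, one_mul]
          exact F.mul_mem hf hf'
      one_mem' := Or.inl F.one_mem
      inv_mem' := by
        rintro y (hy | ⟨f, hf, rfl⟩)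
        · exact Or.inl (F.inv_mem hy)
        · refine Or.inr ⟨f⁻¹, F.inv_mem hf, ?_⟩
          rw [mul_inv_rev, hqi, ← hc _ (F.inv_mem hf)] }
  refine ⟨F', fun f hf => Or.inl hf, Or.inr ⟨1, F.one_mem, (mul_one q).symm⟩, ⟨?_, ?_⟩, fun y hy => hy⟩
  · rintro y (hy | ⟨f, hf, rfl⟩)
    · exact hF.1 y hy
    · calc q * f * (q * f) = q * (f * q) * f := by group
        _ = q * (q * f) * f := by rw [hc f hf]
        _ = (q * q) * (f * f) := by group
        _ = 1 := by rw [hq, hF.1 f hf, one_mul]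
  · rintro y (hy | ⟨f, hf, rfl⟩) z (hz | ⟨f', hf', rfl⟩)
    · exact hF.2 y hy z hz
    · rw [← mul_assoc, ← hc y hy, mul_assoc, mul_assoc, hF.2 y hy f' hf']
    · rw [mul_assoc, hF.2 f hf z hz, ← mul_assoc, hc z hz, mul_assoc]
    · calc q * f * (q * f') = q * (f * q) * f' := by group
        _ = q * (q * f) * f' := by rw [hc f hf]
        _ = q * q * (f * f') := by group
        _ = q * q * (f' * f) := by rw [hF.2 f hf f' hf']
        _ = q * (q * f') * f := by group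
        _ = q * (f' * q) * f := by rw [hc f' hf']
        _ = _ := by group

/-- The 2-group part of the proof that `a`, `b`, `ab` are not conjugate. -/
theorem Mod.not_fusion [Finite T] (M : Mod ψ P) {a b : T} (ha : ψ a = 1) (ha1 : a ≠ 1) (hb : b ∈ P)
    (hψb : ψ b = pb) (ν : T ≃* T) : ν b ≠ b * a := by
  classical
  intro hν
  -- a maximal elementary abelian subgroup of the kernel
  obtain ⟨F, ⟨hFQ, hFe⟩, hFmax⟩ : ∃ F : Subgroup T, (F ≤ ψ.ker ∧ Elem F) ∧
      ∀ F' : Subgroup T, F' ≤ ψ.ker → Elem F' → Nat.card F' ≤ Nat.card F := by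
    obtain ⟨F, hF⟩ := Set.Finite.exists_maximalFor (fun F : Subgroup T => Nat.card F)
      {F : Subgroup T | F ≤ ψ.ker ∧ Elem F} (Set.toFinite _) ⟨⊥, bot_le, by
        constructor
        · rintro u hu; rw [mem_bot] at hu; rw [hu, one_mul]
        · rintro u hu v hv; rw [mem_bot] at hu hv; rw [hu, hv]⟩
    refine ⟨F, hF.1, fun F' h1 h2 => ?_⟩
    by_contra hlt
    push Not at hlt
    exact absurd (hF.2 ⟨h1, h2⟩ hlt.le) (not_le.mpr hlt)
  have hFpos : 0 < Nat.card F := Nat.card_pos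
  -- `Aᵢ F`
  have key : ∀ A : Subgroup E, A ≤ U → Elem A → ∃ V : Subgroup T, Elem V ∧ F ≤ V ∧
      V.map ψ = A ∧ (V ⊓ ψ.ker : Subgroup T) = F ∧ ∀ p ∈ P, ψ p ∈ A → p ∈ V := by
    intro A hAU hA
    let V : Subgroup T :=
      { carrier := {t | ∃ p ∈ P, ∃ q ∈ F, ψ p ∈ A ∧ t = p * q}
        mul_mem' := by
          rintro _ _ ⟨p, hp, q, hq, h, rfl⟩ ⟨p', hp', q', hq', h', rfl⟩
          refine ⟨p * p', P.mul_mem hp hp', q * q', F.mul_mem hq hq', by rw [map_mul]; exact A.mul_mem h h', ?_⟩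
          calc p * q * (p' * q') = p * (q * p') * q' := by group
            _ = p * (p' * q) * q' := by rw [M.comm p' hp' q (hFQ hq)]
            _ = _ := by group
        one_mem' := ⟨1, P.one_mem, 1, F.one_mem, by rw [map_one]; exact A.one_mem, (mul_one 1).symm⟩
        inv_mem' := by
          rintro _ ⟨p, hp, q, hq, h, rfl⟩
          refine ⟨p⁻¹, P.inv_mem hp, q⁻¹, F.inv_mem hq, by rw [map_inv]; exact A.inv_mem h, ?_⟩
          rw [mul_inv_rev, M.comm _ (P.inv_mem hp) _ (hFQ (F.inv_mem hq))] }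
    have hsq : ∀ p ∈ P, ψ p ∈ A → p * p = 1 := fun p hp h =>
      M.inj _ (P.mul_mem hp hp) (by rw [map_mul, hA.1 _ h])
    have hcm : ∀ p ∈ P, ψ p ∈ A → ∀ p' ∈ P, ψ p' ∈ A → p * p' = p' * p := fun p hp h p' hp' h' =>
      M.ext (P.mul_mem hp hp') (P.mul_mem hp' hp) (by rw [map_mul, hA.2 _ h _ h', map_mul])
    refine ⟨V, ⟨?_, ?_⟩, fun q hq => ⟨1, P.one_mem, q, hq, by rw [map_one]; exact A.one_mem,
      (one_mul q).symm⟩, ?_, ?_, fun p hp h => ⟨p, hp, 1, F.one_mem, h, (mul_one p).symm⟩⟩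
    · rintro _ ⟨p, hp, q, hq, h, rfl⟩
      calc p * q * (p * q) = p * (q * p) * q := by group
        _ = p * (p * q) * q := by rw [M.comm p hp q (hFQ hq)]
        _ = (p * p) * (q * q) := by group
        _ = 1 := by rw [hsq p hp h, hFe.1 q hq, one_mul]
    · rintro _ ⟨p, hp, q, hq, h, rfl⟩ _ ⟨p', hp', q', hq', h', rfl⟩
      calc p * q * (p' * q') = p * (q * p') * q' := by group
        _ = p * (p' * q) * q' := by rw [M.comm p' hp' q (hFQ hq)]
        _ = (p * p') * (q * q') := by group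
        _ = (p' * p) * (q' * q) := by rw [hcm p hp h p' hp' h', hFe.2 q hq q' hq']
        _ = p' * (p * q') * q := by group
        _ = p' * (q' * p) * q := by rw [M.comm p hp q' (hFQ hq')]
        _ = _ := by group
    · ext u
      constructor
      · rintro ⟨_, ⟨p, hp, q, hq, h, rfl⟩, rfl⟩
        rw [map_mul, show ψ q = 1 from hFQ hq, mul_one]; exact h
      · intro hu
        obtain ⟨p, hp, rfl⟩ := M.surj u (hAU hu)
        exact ⟨p, ⟨p, hp, 1, F.one_mem, hu, (mul_one p).symm⟩, rfl⟩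
    · ext t
      constructor
      · rintro ⟨⟨p, hp, q, hq, h, rfl⟩, h2⟩
        have h3 : ψ (p * q) = 1 := h2
        rw [map_mul, show ψ q = 1 from hFQ hq, mul_one] at h3
        rw [M.inj p hp h3, one_mul]
        exact hq
      · intro ht
        exact ⟨⟨1, P.one_mem, t, ht, by rw [map_one]; exact A.one_mem, (one_mul t).symm⟩, hFQ ht⟩
  obtain ⟨V1, hV1, hF1, hm1, hi1, hp1⟩ := key A1 (fun s hs => hs.1) elem_A1
  obtain ⟨V2, hV2, hF2, hm2, hi2, hp2⟩ := key A2 (fun s hs => hs.1) elem_A2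
  have hc1 : Nat.card V1 = Nat.card F * 16 := by
    rw [card_eq_inf_mul_map ψ V1, hi1, hm1, card_A1]
  have hc2 : Nat.card V2 = Nat.card F * 16 := by
    rw [card_eq_inf_mul_map ψ V2, hi2, hm2, card_A2]
  have hc12 : Nat.card F * 4 ≤ Nat.card (V1 ⊓ V2 : Subgroup T) := by
    have h1 : Nat.card F ≤ Nat.card ((V1 ⊓ V2) ⊓ ψ.ker : Subgroup T) :=
      Subgroup.card_le_of_le (fun q hq => ⟨⟨hF1 hq, hF2 hq⟩, hFQ hq⟩)
    have h2 : 4 ≤ Nat.card ((V1 ⊓ V2).map ψ) := by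
      rw [← card_ZU]
      apply Subgroup.card_le_of_le
      intro u hu
      obtain ⟨p, hp, rfl⟩ := M.surj u hu.1
      exact ⟨p, ⟨hp1 p hp ⟨hu.1, hu.2.1⟩, hp2 p hp ⟨hu.1, hu.2.2⟩⟩, rfl⟩
    rw [card_eq_inf_mul_map ψ (V1 ⊓ V2)]
    exact Nat.mul_le_mul h1 h2
  -- the images under `ν`
  have himg : ∀ V : Subgroup T, Elem V → Nat.card V = Nat.card F * 16 →
      V.map ψ = A1 ∨ V.map ψ = A2 := by
    intro V hV hc
    apply elem_big (elem_map hV ψ)
    have h1 := card_eq_inf_mul_map ψ V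
    have h2 := hFmax (V ⊓ ψ.ker) inf_le_right (elem_mono inf_le_left hV)
    rw [hc] at h1
    by_contra hlt
    push Not at hlt
    have h3 : Nat.card (V ⊓ ψ.ker : Subgroup T) * Nat.card (V.map ψ) ≤ Nat.card F * 15 :=
      Nat.mul_le_mul h2 (by omega)
    omega
  obtain ⟨e1, he1, e2, he2, he⟩ := exists_comm_A
  obtain ⟨p1, hp1P, rfl⟩ := M.surj e1 he1.1
  obtain ⟨p2, hp2P, rfl⟩ := M.surj e2 he2.1
  have hpb : p1 * p2 * p1⁻¹ * p2⁻¹ = b := by
    apply M.ext _ hb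
    · rw [map_mul, map_mul, map_mul, map_inv, map_inv, he, hψb]
    · exact P.mul_mem (P.mul_mem (P.mul_mem hp1P hp2P) (P.inv_mem hp1P)) (P.inv_mem hp2P)
  have hm1V : p1 ∈ V1 := hp1 p1 hp1P he1
  have hm2V : p2 ∈ V2 := hp2 p2 hp2P he2
  let W1 := V1.map (ν : T →* T)
  let W2 := V2.map (ν : T →* T)
  have hW1 : Elem W1 := elem_map hV1 _
  have hW2 : Elem W2 := elem_map hV2 _
  have hcW1 : Nat.card W1 = Nat.card F * 16 := by
    rw [← hc1]; exact card_map_of_injective ν.injective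
  have hcW2 : Nat.card W2 = Nat.card F * 16 := by
    rw [← hc2]; exact card_map_of_injective ν.injective
  have hn1 : ν p1 ∈ W1 := ⟨p1, hm1V, rfl⟩
  have hn2 : ν p2 ∈ W2 := ⟨p2, hm2V, rfl⟩
  have hcomm : ν p1 * ν p2 * (ν p1)⁻¹ * (ν p2)⁻¹ = b * a := by
    rw [← hν, ← hpb, map_mul, map_mul, map_mul, map_inv, map_inv]
  have hcommψ : ψ (ν p1) * ψ (ν p2) * (ψ (ν p1))⁻¹ * (ψ (ν p2))⁻¹ = pb := by
    have := congrArg ψ hcomm
    rwa [map_mul, map_mul, map_mul, map_inv, map_inv, map_mul ψ b, ha, mul_one, hψb] at this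
  -- the images in `E` are different
  have habel : ∀ A : Subgroup E, Elem A → W1.map ψ = A → W2.map ψ = A → False := by
    intro A hA h1 h2
    have h3 : ψ (ν p1) ∈ A := h1 ▸ mem_map_of_mem ψ hn1
    have h4 : ψ (ν p2) ∈ A := h2 ▸ mem_map_of_mem ψ hn2
    rw [hA.2 _ h3 _ h4, mul_inv_cancel_right, mul_inv_cancel] at hcommψ
    exact pb_ne hcommψ.symm
  have hZ : (W1.map ψ) ⊓ (W2.map ψ) = ZU := by
    rcases himg W1 hW1 hcW1 with h1 | h1 <;> rcases himg W2 hW2 hcW2 with h2 | h2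
    · exact (habel A1 elem_A1 h1 h2).elim
    · rw [h1, h2, A1_inf_A2]
    · rw [h1, h2, inf_comm, A1_inf_A2]
    · exact (habel A2 elem_A2 h1 h2).elim
  have hWU : W1.map ψ ≤ U ∧ W2.map ψ ≤ U := by
    constructor
    · rcases himg W1 hW1 hcW1 with h1 | h1 <;> rw [h1] <;> exact fun s hs => hs.1
    · rcases himg W2 hW2 hcW2 with h1 | h1 <;> rw [h1] <;> exact fun s hs => hs.1
  -- `F' = W1 ∩ W2 ∩ Q`
  have hcW : Nat.card F * 4 ≤ Nat.card (W1 ⊓ W2 : Subgroup T) := by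
    have e : (W1 ⊓ W2 : Subgroup T) = (V1 ⊓ V2).map (ν : T →* T) :=
      (Subgroup.map_inf V1 V2 (ν : T →* T) ν.injective).symm
    rw [e, card_map_of_injective (f := (ν : T →* T)) ν.injective]
    exact hc12
  obtain ⟨F', hF'⟩ : ∃ F' : Subgroup T, F' = (W1 ⊓ W2) ⊓ ψ.ker := ⟨_, rfl⟩
  have hF'e : Elem F' := hF' ▸ elem_mono (inf_le_left.trans inf_le_left) hW1
  have hF'Q : F' ≤ ψ.ker := hF' ▸ inf_le_right
  have hF'c : Nat.card F ≤ Nat.card F' := by
    have h1 := card_eq_inf_mul_map ψ (W1 ⊓ W2)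
    have h2 : Nat.card ((W1 ⊓ W2).map ψ) ≤ 4 := by
      rw [← card_ZU, ← hZ]
      exact Subgroup.card_le_of_le (Subgroup.map_inf_le W1 W2 ψ)
    rw [← hF'] at h1
    have h3 : Nat.card F' * Nat.card ((W1 ⊓ W2).map ψ) ≤ Nat.card F' * 4 := Nat.mul_le_mul_left _ h2
    omega
  -- the components in the kernel are in `F'`
  have hin : ∀ W : Subgroup T, Elem W → F' ≤ W → ∀ p ∈ P, ∀ q, ψ q = 1 → p * q ∈ W → q ∈ F' := by
    intro W hW hFW p hp q hq hpq
    have hqc : ∀ f ∈ F', q * f = f * q := by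
      intro f hf
      have h1 := hW.2 _ hpq f (hFW hf)
      have h2 := M.comm p hp f (hF'Q hf)
      have h3 : p * (q * f) = p * (f * q) := by
        calc p * (q * f) = p * q * f := by group
          _ = f * (p * q) := h1
          _ = (f * p) * q := by group
          _ = (p * f) * q := by rw [h2]
          _ = _ := by group
      exact mul_left_cancel h3
    have hq2 := (M.sq_split hp hq (hW.1 _ hpq)).2
    obtain ⟨F'', h1, h2, h3, h4⟩ := exists_adjoin hF'e hq2 hqc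
    have h5 : F'' ≤ ψ.ker := by
      intro y hy
      rcases h4 y hy with h | ⟨f, hf, rfl⟩
      · exact hF'Q h
      · change ψ (q * f) = 1
        rw [map_mul, hq, show ψ f = 1 from hF'Q hf, one_mul]
    have h6 := hFmax F'' h5 h3
    have h7 : F' = F'' := Subgroup.eq_of_le_of_card_ge h1 (h6.trans hF'c)
    rw [h7]; exact h2
  obtain ⟨r1, hr1, s1, hs1, e1'⟩ := M.split (hWU.1 (mem_map_of_mem ψ hn1))
  obtain ⟨r2, hr2, s2, hs2, e2'⟩ := M.split (hWU.2 (mem_map_of_mem ψ hn2))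
  have hs1F : s1 ∈ F' := hin W1 hW1 (hF' ▸ inf_le_left.trans inf_le_left) r1 hr1 s1 hs1 (e1' ▸ hn1)
  have hs2F : s2 ∈ F' := hin W2 hW2 (hF' ▸ inf_le_left.trans inf_le_right) r2 hr2 s2 hs2 (e2' ▸ hn2)
  have h12 := hF'e.2 s1 hs1F s2 hs2F
  rw [e1', e2'] at hcomm
  have c1 := M.comm r1 hr1 s1 hs1
  have c2 := M.comm r2 hr2 s2 hs2
  have c3 := M.comm r1 hr1 s2 hs2
  have c4 := M.comm r2 hr2 s1 hs1
  have hfin : r1 * s1 * (r2 * s2) * (r1 * s1)⁻¹ * (r2 * s2)⁻¹ = r1 * r2 * r1⁻¹ * r2⁻¹ := by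
    have h1 : r1 * s1 * (r2 * s2) = (r1 * r2) * (s1 * s2) := by
      calc r1 * s1 * (r2 * s2) = r1 * (s1 * r2) * s2 := by group
        _ = r1 * (r2 * s1) * s2 := by rw [c4]
        _ = _ := by group
    have h2 : r2 * s2 * (r1 * s1) = (r2 * r1) * (s2 * s1) := by
      calc r2 * s2 * (r1 * s1) = r2 * (s2 * r1) * s1 := by group
        _ = r2 * (r1 * s2) * s1 := by rw [c3]
        _ = _ := by group
    have h3 : r1 * s1 * (r2 * s2) * (r1 * s1)⁻¹ * (r2 * s2)⁻¹ =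
        (r1 * s1 * (r2 * s2)) * (r2 * s2 * (r1 * s1))⁻¹ := by group
    rw [h3, h1, h2, h12]
    group
  rw [hfin] at hcomm
  have hr : r1 * r2 * r1⁻¹ * r2⁻¹ ∈ P :=
    P.mul_mem (P.mul_mem (P.mul_mem hr1 hr2) (P.inv_mem hr1)) (P.inv_mem hr2)
  have hlast : r1 * r2 * r1⁻¹ * r2⁻¹ = b := by
    apply M.ext hr hb
    rw [hcomm, map_mul, ha, mul_one]
  rw [hlast] at hcomm
  exact ha1 (mul_eq_left.mp hcomm.symm)

end

end Cfsg.Agent.UGT.L34
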