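import Cfsg.Agent.UGT.L34.Embed
import Cfsg.Agent.UGT.L34.TwoGp

/-!
# 2-subgroups of `Aut L₃(4)` embed in `E`
-/

set_option autoImplicit false
set_option linter.constructorNameAsVariable false
set_option linter.unusedVariables false

open Subgroup
open Cfsg.Agent.ClassicalGeometry.AutPSL.Root
open Cfsg.Agent.ClassicalGeometry.AutPSL.Auto
open Cfsg.Agent.SporadicA.FieldFour
open Cfsg.Agent.ONType.Psl
open Cfsg.Agent.ONType.PslCard
open Cfsg.Agent.StdL3.OuterMat

namespace Cfsg.Agent.UGT.L34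

open Embed

/-- the inner automorphisms -/
abbrev Inn : Subgroup (MulAut PSL3) := (MulAut.conj (G := PSL3)).range

theorem card_E : Nat.card E = 256 := by
  have e : E ≃ (F4 × F4 × F4) × (Bool × Bool) :=
    { toFun := fun s => ((s.h.a, s.h.b, s.h.c), (s.f, s.g))
      invFun := fun t => el t.1.1 t.1.2.1 t.1.2.2 t.2.1 t.2.2
      left_inv := fun s => rfl
      right_inv := fun t => rfl }
  rw [Nat.card_congr e, Nat.card_eq_fintype_card]
  simp only [Fintype.card_prod, Fintype.card_bool]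
  rfl

theorem card_U : Nat.card U = 64 := by
  have e : U ≃ F4 × F4 × F4 :=
    { toFun := fun s => (s.1.h.a, s.1.h.b, s.1.h.c)
      invFun := fun t => ⟨el t.1 t.2.1 t.2.2 false false, ⟨rfl, rfl⟩⟩
      left_inv := fun s => Subtype.ext (by
        change el s.1.h.a s.1.h.b s.1.h.c false false = s.1
        conv_rhs => rw [eta s.1, s.2.1, s.2.2])
      right_inv := fun _ => rfl }
  rw [Nat.card_congr e, Nat.card_eq_fintype_card]
  simp only [Fintype.card_prod]
  rfl

instance finPSL : Finite PSL3 := inferInstance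
instance finAut : Finite (MulAut PSL3) := inferInstance

/-- a 2-group with an injection into `PSL3` has order at most 64 -/
theorem card_le_64 {X : Type*} [Group X] (hX : IsPGroup 2 X) (f : X →* PSL3) (hf : Function.Injective f) :
    Nat.card X ≤ 64 := by
  have : Fact (Nat.Prime 2) := ⟨Nat.prime_two⟩
  have hfin : Finite X := Finite.of_injective f hf
  obtain ⟨n, hn⟩ := IsPGroup.iff_card.mp hX
  have h1 : Nat.card X ∣ Nat.card PSL3 := by
    rw [Nat.card_congr (MonoidHom.ofInjective hf).toEquiv]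
    exact card_subgroup_dvd_card _
  rw [card_PSL3, hn] at h1
  have h2 : n ≤ 6 := by
    by_contra h3
    have h4 : 2 ^ 7 ∣ 20160 := (pow_dvd_pow 2 (by omega : 7 ≤ n)).trans h1
    exact absurd h4 (by decide)
  rw [hn]
  calc 2 ^ n ≤ 2 ^ 6 := Nat.pow_le_pow_right (by norm_num) h2
    _ = 64 := by norm_num

/-- the inner part of a 2-group of automorphisms has order at most 64 -/
theorem card_inf_inn {T : Subgroup (MulAut PSL3)} (hT : IsPGroup 2 T) :
    Nat.card (T ⊓ Inn : Subgroup (MulAut PSL3)) ≤ 64 := by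
  have hci : Function.Injective (MulAut.conj (G := PSL3)) := by
    rw [injective_iff_map_eq_one]
    intro l hl
    exact conj_inj hl
  let e := (MonoidHom.ofInjective hci).symm
  have h1 : IsPGroup 2 (T ⊓ Inn : Subgroup (MulAut PSL3)) := hT.to_le inf_le_left
  refine card_le_64 h1 (e.toMonoidHom.comp (inclusion (inf_le_right : T ⊓ Inn ≤ Inn))) ?_
  exact e.injective.comp (inclusion_injective _)

/-- elements of 2-power order of `N` are inner -/
theorem inner_of_mem_N {α : MulAut PSL3} (h : α ∈ Cfsg.Agent.StdL3.OuterQuot.N) {k : ℕ} (h2 : α ^ 2 ^ k = 1) :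
    α ∈ Inn := by
  obtain ⟨l, hl⟩ := Cfsg.Agent.StdL3.OuterQuot.cube_inner h
  have hc : IsCoprime (3 : ℤ) ((2 ^ k : ℕ) : ℤ) := by
    rw [Nat.cast_pow]
    exact IsCoprime.pow_right ((Int.isCoprime_iff_gcd_eq_one).2 (by decide))
  obtain ⟨a, b, hab⟩ := hc
  have h3 : α = (α ^ 3) ^ a * (α ^ 2 ^ k) ^ b := by
    have e1 : (α ^ 3) ^ a = α ^ (a * 3) := by
      rw [mul_comm, zpow_mul]
      congr 1
    have e2 : (α ^ 2 ^ k) ^ b = α ^ (b * ((2 ^ k : ℕ) : ℤ)) := by
      rw [mul_comm, zpow_mul, zpow_natCast]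
    rw [e1, e2, ← zpow_add, hab, zpow_one]
  rw [h2, one_zpow, mul_one, hl, ← map_zpow] at h3
  exact ⟨l ^ a, h3.symm⟩

theorem card_le_256 {T : Subgroup (MulAut PSL3)} (hT : IsPGroup 2 T) : Nat.card T ≤ 256 := by
  have h1 := card_eq_inf_mul_map (QuotientGroup.mk' Cfsg.Agent.StdL3.OuterQuot.N) T
  have h2 : Nat.card (T ⊓ (QuotientGroup.mk' Cfsg.Agent.StdL3.OuterQuot.N).ker :
      Subgroup (MulAut PSL3)) ≤ 64 := by
    refine le_trans ?_ (card_inf_inn hT)
    apply Subgroup.card_le_of_le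
    rintro α ⟨h3, h4⟩
    rw [QuotientGroup.ker_mk'] at h4
    obtain ⟨k, hk⟩ := hT ⟨α, h3⟩
    exact ⟨h3, inner_of_mem_N h4 (k := k) (congrArg Subtype.val hk)⟩
  have h3 : Nat.card (T.map (QuotientGroup.mk' Cfsg.Agent.StdL3.OuterQuot.N)) ≤ 4 :=
    (Subgroup.card_le_card_group _).trans Cfsg.Agent.StdL3.OuterQuot.card_quot
  rw [h1]
  calc _ ≤ 64 * 4 := Nat.mul_le_mul h2 h3
    _ = 256 := by norm_num

theorem isPGroup_E : IsPGroup 2 E := by
  have : Fact (Nat.Prime 2) := ⟨Nat.prime_two⟩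
  exact IsPGroup.of_card (n := 8) (by rw [card_E]; norm_num)

theorem card_range : Nat.card iota.range = 256 := by
  rw [← Nat.card_congr (MonoidHom.ofInjective iota_injective).toEquiv, card_E]

/-- the image of `E` is a maximal 2-subgroup -/
theorem range_max {T : Subgroup (MulAut PSL3)} (hT : IsPGroup 2 T) (h : iota.range ≤ T) : T = iota.range :=
  (Subgroup.eq_of_le_of_card_ge h (by rw [card_range]; exact card_le_256 hT)).symm

theorem iota_inn {e : E} : iota e ∈ Inn ↔ e ∈ U := by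
  constructor
  · intro h
    -- `iota⁻¹ (Inn)` has order at most 64 and contains `U`
    let W : Subgroup E := Inn.comap iota
    have hU : U ≤ W := by
      intro u hu
      have h3 : u = ⟨u.h, false, false⟩ := by
        conv_lhs => rw [show u = ⟨u.h, u.f, u.g⟩ from rfl, hu.1, hu.2]
      rw [h3, mem_comap, iota_U]
      exact ⟨_, rfl⟩
    have hW : Nat.card W ≤ 64 := by
      have h1 : W.map iota ≤ iota.range ⊓ Inn := by
        rintro _ ⟨w, hw, rfl⟩
        exact ⟨⟨w, rfl⟩, hw⟩
      have h2 : Nat.card (W.map iota) = Nat.card W := card_map_of_injective iota_injective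
      have h4 : IsPGroup 2 iota.range := by
        rw [MonoidHom.range_eq_map]
        exact (isPGroup_E.to_subgroup ⊤).map iota
      rw [← h2]
      exact (Subgroup.card_le_of_le h1).trans (card_inf_inn h4)
    have h5 : U = W := Subgroup.eq_of_le_of_card_ge hU (by rw [card_U]; exact hW)
    rw [h5]; exact h
  · intro hu
    have h3 : e = ⟨e.h, false, false⟩ := by
      conv_lhs => rw [show e = ⟨e.h, e.f, e.g⟩ from rfl, hu.1, hu.2]
    rw [h3, iota_U]
    exact ⟨_, rfl⟩

/-- labels of involutions with at most one involution of `U` in the centralizer -/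
theorem label_px (e : E) (he : e * e = 1)
    (hc : ∀ s ∈ U, ∀ s' ∈ U, s * s = 1 → s' * s' = 1 → s ≠ 1 → s' ≠ 1 → e * s = s * e → e * s' = s' * e →
      s * s' = s' * s → s = s') : e.f = true ∧ e.g = true := by
  have h1 : ∀ e : E, e.f = false ∨ e.g = false → e * e = 1 → ∃ (a b c a' b' c' : F4),
      el a b c false false * el a b c false false = 1 ∧
      el a' b' c' false false * el a' b' c' false false = 1 ∧
      el a b c false false ≠ 1 ∧ el a' b' c' false false ≠ 1 ∧
      e * el a b c false false = el a b c false false * e ∧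
      e * el a' b' c' false false = el a' b' c' false false * e ∧
      el a b c false false * el a' b' c' false false = el a' b' c' false false * el a b c false false ∧
      el a b c false false ≠ el a' b' c' false false := by
    intro e hl he
    -- up to conjugation
    have key : ∀ e u : E, u ∈ U → (∃ s ∈ U, ∃ s' ∈ U, s * s = 1 ∧ s' * s' = 1 ∧ s ≠ 1 ∧ s' ≠ 1 ∧
        e * s = s * e ∧ e * s' = s' * e ∧ s * s' = s' * s ∧ s ≠ s') →
        ∃ s ∈ U, ∃ s' ∈ U, s * s = 1 ∧ s' * s' = 1 ∧ s ≠ 1 ∧ s' ≠ 1 ∧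
        (u * e * u⁻¹) * s = s * (u * e * u⁻¹) ∧ (u * e * u⁻¹) * s' = s' * (u * e * u⁻¹) ∧
        s * s' = s' * s ∧ s ≠ s' := by
      rintro e u hu ⟨s, hs, s', hs', h1, h2, h3, h4, h5, h6, h7, h8⟩
      have cj : ∀ v w : E, (u * v * u⁻¹) * (u * w * u⁻¹) = u * (v * w) * u⁻¹ := by
        intro v w; group
      refine ⟨u * s * u⁻¹, conj_mem_U hs, u * s' * u⁻¹, conj_mem_U hs', ?_, ?_, ?_, ?_, ?_, ?_, ?_, ?_⟩
      · rw [cj, h1]; group
      · rw [cj, h2]; group
      · intro h; apply h3; rwa [mul_inv_eq_one, mul_eq_left] at h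
      · intro h; apply h4; rwa [mul_inv_eq_one, mul_eq_left] at h
      · rw [cj, cj, h5]
      · rw [cj, cj, h6]
      · rw [cj, cj, h7]
      · intro h; apply h8; rwa [mul_left_inj, mul_right_inj] at h
    have fin : ∀ e : E, (∃ s ∈ U, ∃ s' ∈ U, s * s = 1 ∧ s' * s' = 1 ∧ s ≠ 1 ∧ s' ≠ 1 ∧
        e * s = s * e ∧ e * s' = s' * e ∧ s * s' = s' * s ∧ s ≠ s') →
        ∃ (a b c a' b' c' : F4),
      el a b c false false * el a b c false false = 1 ∧
      el a' b' c' false false * el a' b' c' false false = 1 ∧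
      el a b c false false ≠ 1 ∧ el a' b' c' false false ≠ 1 ∧
      e * el a b c false false = el a b c false false * e ∧
      e * el a' b' c' false false = el a' b' c' false false * e ∧
      el a b c false false * el a' b' c' false false = el a' b' c' false false * el a b c false false ∧
      el a b c false false ≠ el a' b' c' false false := by
      rintro e ⟨s, hs, s', hs', h⟩
      have e1 : s = el s.h.a s.h.b s.h.c false false := by
        conv_lhs => rw [eta s, hs.1, hs.2]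
      have e2 : s' = el s'.h.a s'.h.b s'.h.c false false := by
        conv_lhs => rw [eta s', hs'.1, hs'.2]
      rw [e1, e2] at h
      exact ⟨_, _, _, _, _, _, h⟩
    apply fin
    rcases hf : e.f with _ | _
    · rcases hg : e.g with _ | _
      · -- inner: commutes with the centre
        refine ⟨el 0 0 1 false false, ⟨rfl, rfl⟩, el 0 0 .w false false, ⟨rfl, rfl⟩, by decide, by decide,
          by decide, by decide, ?_, ?_, by decide, by decide⟩
        · exact cent_g _ _ hf ⟨⟨rfl, rfl⟩, rfl, rfl⟩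
        · exact cent_g _ _ hf ⟨⟨rfl, rfl⟩, rfl, rfl⟩
      · refine ⟨el 0 0 1 false false, ⟨rfl, rfl⟩, el 0 0 .w false false, ⟨rfl, rfl⟩, by decide, by decide,
          by decide, by decide, ?_, ?_, by decide, by decide⟩
        · exact cent_g _ _ hf ⟨⟨rfl, rfl⟩, rfl, rfl⟩
        · exact cent_g _ _ hf ⟨⟨rfl, rfl⟩, rfl, rfl⟩
    · rcases hg : e.g with _ | _
      · obtain ⟨u, hu, rfl⟩ := conj_f e hf hg he
        apply key _ _ hu
        exact ⟨el 0 0 1 false false, ⟨rfl, rfl⟩, el 1 0 0 false false, ⟨rfl, rfl⟩, by decide, by decide,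
          by decide, by decide, by decide, by decide, by decide, by decide⟩
      · rcases hl with h | h
        · rw [hf] at h; exact absurd h (by decide)
        · rw [hg] at h; exact absurd h (by decide)
  by_contra hno
  have hl : e.f = false ∨ e.g = false := by
    rcases hf : e.f with _ | _
    · exact Or.inl rfl
    · rcases hg : e.g with _ | _
      · exact Or.inr rfl
      · exact absurd ⟨hf, hg⟩ hno
  obtain ⟨p, q, r, p', q', r', h2, h3, h4, h5, h6, h7, h8, h9⟩ := h1 e hl he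
  exact h9 (hc _ ⟨rfl, rfl⟩ _ ⟨rfl, rfl⟩ h2 h3 h4 h5 h6 h7 h8)

/-- **The model for `PSL3`.** -/
theorem exists_model_psl (T : Subgroup (MulAut PSL3)) (hT : IsPGroup 2 T) (ξ : MulAut PSL3) (hξT : ξ ∈ T)
    (hξ : ξ * ξ = 1)
    (hc : ∀ s s' : PSL3, s * s = 1 → s' * s' = 1 → s ≠ 1 → s' ≠ 1 → ξ s = s → ξ s' = s' →
      s * s' = s' * s → s = s') :
    ∃ ψ : ↥T →* E, Function.Injective ψ ∧ (∀ t : ↥T, ψ t ∈ U ↔ (t : MulAut PSL3) ∈ Inn) ∧
      ψ ⟨ξ, hξT⟩ = px := by
  have hp : Fact (Nat.Prime 2) := ⟨Nat.prime_two⟩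
  have hrp : IsPGroup 2 iota.range := by
    rw [MonoidHom.range_eq_map]
    exact (isPGroup_E.to_subgroup ⊤).map iota
  -- conjugate `T` into `iota.range`
  obtain ⟨P0, hP0⟩ := hrp.exists_le_sylow
  have hP0' : (P0 : Subgroup (MulAut PSL3)) = iota.range := range_max P0.isPGroup' hP0
  obtain ⟨P1, hP1⟩ := hT.exists_le_sylow
  obtain ⟨g, hg⟩ := MulAction.exists_smul_eq (MulAut PSL3) P1 P0
  have hgT : ∀ t ∈ T, g * t * g⁻¹ ∈ iota.range := by
    intro t ht
    rw [← hP0', ← hg]
    exact ⟨t, hP1 ht, rfl⟩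
  let e0 := (MonoidHom.ofInjective iota_injective).symm
  let ψ0 : ↥T →* E := e0.toMonoidHom.comp
    (((MulAut.conj g).toMonoidHom.comp T.subtype).codRestrict iota.range (fun t => hgT t t.2))
  have hψ0 : ∀ t : ↥T, iota (ψ0 t) = g * t * g⁻¹ := by
    intro t
    have h1 : (MonoidHom.ofInjective iota_injective) (ψ0 t) = ⟨g * t * g⁻¹, hgT t t.2⟩ := by
      change (MonoidHom.ofInjective iota_injective) (e0 _) = _
      exact (MonoidHom.ofInjective iota_injective).apply_symm_apply _
    exact congrArg Subtype.val h1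
  have hinj0 : Function.Injective ψ0 := by
    intro t t' h
    apply Subtype.ext
    have h1 := congrArg iota h
    rw [hψ0, hψ0, mul_left_inj, mul_right_inj] at h1
    exact h1
  have hinnc : ∀ (g : MulAut PSL3) (t : MulAut PSL3), g * t * g⁻¹ ∈ Inn ↔ t ∈ Inn := by
    have h1 : ∀ (g : MulAut PSL3) (t : MulAut PSL3), t ∈ Inn → g * t * g⁻¹ ∈ Inn := by
      rintro g _ ⟨l, rfl⟩
      exact ⟨g l, by rw [Embed.conj_comm, mul_inv_cancel_right]⟩
    intro g t
    refine ⟨fun h => ?_, h1 g t⟩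
    have h2 := h1 g⁻¹ _ h
    have h3 : g⁻¹ * (g * t * g⁻¹) * g⁻¹⁻¹ = t := by group
    rwa [h3] at h2
  have hU0 : ∀ t : ↥T, ψ0 t ∈ U ↔ (t : MulAut PSL3) ∈ Inn := by
    intro t
    rw [← iota_inn, hψ0, hinnc]
  -- the label of `ξ`
  obtain ⟨e, he⟩ : ∃ e, e = ψ0 ⟨ξ, hξT⟩ := ⟨_, rfl⟩
  have hee : e * e = 1 := by
    rw [he, ← map_mul]
    have : (⟨ξ, hξT⟩ : ↥T) * ⟨ξ, hξT⟩ = 1 := Subtype.ext hξ
    rw [this, map_one]
  have hie : iota e = g * ξ * g⁻¹ := by rw [he, hψ0]
  -- fixed points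
  have hlift : ∀ s ∈ U, ∃ l : PSL3, iota s = MulAut.conj l := by
    intro s hs
    obtain ⟨l, hl⟩ := iota_inn.mpr hs
    exact ⟨l, hl.symm⟩
  have hci : Function.Injective (MulAut.conj (G := PSL3)) := by
    rw [injective_iff_map_eq_one]
    intro l hl
    exact conj_inj hl
  have hfix : ∀ s ∈ U, ∀ l : PSL3, iota s = MulAut.conj l → e * s = s * e → ξ (g⁻¹ l) = g⁻¹ l := by
    intro s hs l hl hes
    have h1 := congrArg iota hes
    rw [map_mul, map_mul, hie, hl] at h1
    have h2 : (g * ξ * g⁻¹) * MulAut.conj l = MulAut.conj ((g * ξ * g⁻¹) l) * (g * ξ * g⁻¹) :=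
      Embed.conj_comm _ _
    rw [h2, mul_left_inj] at h1
    have h3 := hci h1
    have h4 : g (ξ (g⁻¹ l)) = l := h3
    have h5 := congrArg (fun y => g⁻¹ y) h4
    change (g⁻¹ * g) (ξ (g⁻¹ l)) = g⁻¹ l at h5
    rw [inv_mul_cancel] at h5
    exact h5
  obtain ⟨hf, hg'⟩ := label_px e hee (by
    intro s hs s' hs' h1 h2 h3 h4 h5 h6 h7
    obtain ⟨l, hl⟩ := hlift s hs
    obtain ⟨l', hl'⟩ := hlift s' hs'
    have m1 : l * l = 1 := hci (by rw [map_mul, ← hl, ← map_mul, h1, map_one, map_one])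
    have m2 : l' * l' = 1 := hci (by rw [map_mul, ← hl', ← map_mul, h2, map_one, map_one])
    have m3 : l ≠ 1 := by
      rintro rfl; apply h3; apply iota_injective; rw [hl, map_one, map_one]
    have m4 : l' ≠ 1 := by
      rintro rfl; apply h4; apply iota_injective; rw [hl', map_one, map_one]
    have m7 : l * l' = l' * l := hci (by
      rw [map_mul, map_mul, ← hl, ← hl', ← map_mul, ← map_mul, h7])
    have h8 := hc (g⁻¹ l) (g⁻¹ l') (by rw [← map_mul, m1, map_one]) (by rw [← map_mul, m2, map_one])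
      (fun h => m3 (by
        have := congrArg (fun y => g y) h
        change (g * g⁻¹) l = g 1 at this
        rw [mul_inv_cancel, map_one] at this
        exact this))
      (fun h => m4 (by
        have := congrArg (fun y => g y) h
        change (g * g⁻¹) l' = g 1 at this
        rw [mul_inv_cancel, map_one] at this
        exact this))
      (hfix s hs l hl h5) (hfix s' hs' l' hl' h6) (by rw [← map_mul, m7, map_mul])
    have h9 : l = l' := g⁻¹.injective h8
    apply iota_injective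
    rw [hl, hl', h9])
  obtain ⟨u, hu, hux⟩ := conj_x e hf hg' hee
  refine ⟨((MulAut.conj u⁻¹).toMonoidHom).comp ψ0, (MulAut.conj u⁻¹).injective.comp hinj0, ?_, ?_⟩
  · intro t
    rw [← hU0]
    change u⁻¹ * ψ0 t * u⁻¹⁻¹ ∈ U ↔ _
    constructor
    · intro h
      have h1 := U.mul_mem (U.mul_mem hu h) (U.inv_mem hu)
      have h2 : u * (u⁻¹ * ψ0 t * u⁻¹⁻¹) * u⁻¹ = ψ0 t := by group
      rwa [h2] at h1
    · intro h
      exact conj_mem_U h
  · change u⁻¹ * ψ0 ⟨ξ, hξT⟩ * u⁻¹⁻¹ = px
    rw [← he, ← hux]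
    group

end Cfsg.Agent.UGT.L34
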