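import Cfsg.Agent.UGT.L34.Main
import Cfsg.Agent.UGT.L34.Sylow
import Cfsg.Agent.UGT.LTF.Defs
import Cfsg.Agent.UGT.InnB
import Cfsg.Agent.LThreeFour.Exists
import Cfsg.Agent.LThreeFour.Inv

/-!
# From a triple of type `L₃(4)` to the situation `Ctx`

* `exists_model`: 2-groups of automorphisms of `D ≅ L₃(4)`.
* `T1 x a L S`: a triple of type `L₃(4)`, `S ≤ C(a) ∩ N(L)` a Sylow 2-subgroup of `G`, `C_S(x)` Sylow in
  `C(a, x) ∩ N(L)`, `a` the only involution of `C_Q(x)`.
* `T1.exists_ctx`.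
-/

set_option autoImplicit false
set_option linter.unusedVariables false

open Cfsg Subgroup
open Cfsg.Agent.SignalizersComponents Cfsg.Agent.Lib
open Cfsg.Agent.SignalizersComponents.IntrinsicBasic
open Cfsg.Agent.SignalizersComponents.IntrinsicIntr
open Cfsg.Agent.SignalizersComponents.PLayerAut
open Cfsg.Agent.Intrinsic.Basic Cfsg.Agent.Intrinsic.Cen Cfsg.Agent.Intrinsic.Diag
open Cfsg.Agent.McLLyComp.Act
open Cfsg.Agent.UGT.Triple Cfsg.Agent.UGT.TriBase
open Cfsg.Agent.UGT.Iface (Bar IsL34)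
open Cfsg.Agent.UGT.LTF.Defs (KF34 FT OddC)
open Cfsg.Agent.ONType.Psl (PSL3)
open Cfsg.Agent.UGT.L34 hiding act

namespace Cfsg.Agent.UGT.LSup

universe u

theorem exists_equiv {D : Type*} [Group D] (hD : IsL34 D) : Nonempty (D ≃* PSL3) := by
  obtain ⟨F, i, j, hF, ⟨e⟩⟩ := hD
  obtain ⟨f⟩ := Cfsg.Agent.SporadicA.FieldFour.nonempty_psl_equiv (n := Fin 3) F hF
  exact ⟨e.trans f.symm⟩

theorem exists_dat {D : Type*} [Group D] (hD : IsL34 D) : Nonempty (Cfsg.Agent.LThreeFour.Dat D) := by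
  obtain ⟨F, i, j, hF, ⟨e⟩⟩ := hD
  exact Cfsg.Agent.LThreeFour.exists_dat hF e

/-- **The model.** -/
theorem exists_model {D : Type*} [Group D] (hD : IsL34 D) (T : Subgroup (MulAut D)) (hT : IsPGroup 2 T)
    (ξ : MulAut D) (hξT : ξ ∈ T) (hξ : ξ * ξ = 1)
    (hc : ∀ s s' : D, s * s = 1 → s' * s' = 1 → s ≠ 1 → s' ≠ 1 → ξ s = s → ξ s' = s' →
      s * s' = s' * s → s = s') :
    ∃ ψ : ↥T →* E, Function.Injective ψ ∧ (∀ t : ↥T, ψ t ∈ U ↔ ∃ l, (t : MulAut D) = MulAut.conj l) ∧
      ψ ⟨ξ, hξT⟩ = px := by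
  obtain ⟨e⟩ := exists_equiv hD
  let c : MulAut D ≃* MulAut PSL3 := MulAut.congr e
  have hcapp : ∀ (α : MulAut D) (y : PSL3), c α y = e (α (e.symm y)) := fun _ _ => rfl
  have hcconj : ∀ l : D, c (MulAut.conj l) = MulAut.conj (e l) := by
    intro l
    apply MulEquiv.ext
    intro y
    rw [hcapp, MulAut.conj_apply, MulAut.conj_apply, map_mul, map_mul, map_inv, e.apply_symm_apply]
  have hT' : IsPGroup 2 (T.map c.toMonoidHom) := hT.map _
  have hfix : ∀ y : PSL3, c ξ y = y → ξ (e.symm y) = e.symm y := by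
    intro y hy
    rw [hcapp] at hy
    apply e.injective
    rw [hy, e.apply_symm_apply]
  obtain ⟨ψ, h1, h2, h3⟩ := exists_model_psl (T.map c.toMonoidHom) hT' (c ξ) ⟨ξ, hξT, rfl⟩
    (by rw [← map_mul, hξ, map_one]) (by
      intro s s' hs hs' hs1 hs1' hf hf' hcm
      have h4 := hc (e.symm s) (e.symm s') (by rw [← map_mul, hs, map_one]) (by rw [← map_mul, hs', map_one])
        (fun h => hs1 (by rw [← e.apply_symm_apply s, h, map_one]))
        (fun h => hs1' (by rw [← e.apply_symm_apply s', h, map_one])) (hfix s hf) (hfix s' hf')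
        (by rw [← map_mul, hcm, map_mul])
      exact e.symm.injective h4)
  let r : ↥T →* ↥(T.map c.toMonoidHom) :=
    (c.toMonoidHom.comp T.subtype).codRestrict _ (fun t => ⟨t, t.2, rfl⟩)
  refine ⟨ψ.comp r, h1.comp ?_, ?_, ?_⟩
  · intro t t' h
    apply Subtype.ext
    exact c.injective (congrArg Subtype.val h)
  · intro t
    have h4 := h2 (r t)
    change ψ (r t) ∈ U ↔ _
    rw [h4]
    constructor
    · rintro ⟨l, hl⟩
      refine ⟨e.symm l, ?_⟩
      apply c.injective
      rw [hcconj, e.apply_symm_apply]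
      exact hl.symm
    · rintro ⟨l, hl⟩
      refine ⟨e l, ?_⟩
      change _ = c (t : MulAut D)
      rw [hl, hcconj]
  · exact h3

/-- Case T1. -/
structure T1 {G : Type u} [Group G] (x a : G) (L S : Subgroup G) : Prop where
  T : IsTriple x a L
  l34 : IsL34 (Bar L)
  S2 : IsPGroup 2 ↥S
  syl : ¬ 2 ∣ S.index
  SC : S ≤ centralizer ({a} : Set G)
  SN : S ≤ normalizer (L : Set G)
  xS : x ∈ S
  sx : IsSyl (centralizer ({a} : Set G) ⊓ normalizer (L : Set G) ⊓ centralizer ({x} : Set G))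
    (S ⊓ centralizer ({x} : Set G))
  uniq : ∀ q ∈ S, Fixes q L → q * x = x * q → q * q = 1 → q ≠ 1 → q = a

section

variable {G : Type u} [Group G] [Finite G] {x a : G} {L S : Subgroup G}

/-- the facts for the polarity -/
theorem ft_of_triple (kf : KF34.{u}) (T : IsTriple x a L) (h34 : IsL34 (Bar L)) :
    FT (act L ⟨x, T.x_mem⟩) := by
  obtain ⟨τ, D, rfl, h2, h3, h4, h5, h6, h7, -⟩ := InnB.exists_image T
  exact kf _ h34 _ h2 D ⟨h4, h6, h7⟩ h5

theorem mk_center (kf : KF34.{u}) (T : IsTriple x a L) (h34 : IsL34 (Bar L)) {z : Bar L}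
    (hz : MulAut.conj z = 1) : z = 1 := (ft_of_triple kf T h34).cl z hz

omit [Finite G] in
theorem T1.aS (h : T1 x a L S) : a ∈ S := by
  have h2 : IsPGroup 2 (zpowers a) := by
    apply IsPGroup.of_card (n := 1)
    rw [Nat.card_zpowers, h.T.inva, pow_one]
  -- `a` is in every Sylow 2-subgroup of its centralizer
  have hp : Fact (Nat.Prime 2) := ⟨Nat.prime_two⟩
  have hn : (zpowers a) ≤ normalizer (S : Set G) := by
    rw [zpowers_le, mem_normalizer_iff]
    intro s
    constructor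
    · intro hs
      have h3 := mem_centralizer_singleton_iff.mp (h.SC hs)
      have h4 : a * s * a⁻¹ = s := by rw [← h3, mul_inv_cancel_right]
      rwa [h4]
    · intro hs
      have h3 := mem_centralizer_singleton_iff.mp (h.SC hs)
      have h4 : s = a * s * a⁻¹ := by
        have h5 : a * s * a⁻¹ * a = a * (a * s * a⁻¹) := h3
        have h6 : a * s = a * (a * s * a⁻¹) := by rw [← h5]; group
        exact mul_left_cancel h6
      rw [h4]; exact hs
  have h5 : IsPGroup 2 ↥(S ⊔ zpowers a : Subgroup G) := h.S2.to_sup_of_normal_left' h2 hn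
  have h6 := (h.S2.toSylow h.syl).is_maximal' h5 (le_sup_left)
  have h7 : S ⊔ zpowers a = S := h6
  rw [← h7]
  exact (le_sup_right : zpowers a ≤ _) (mem_zpowers a)

/-- `C(a, x) ≤ N(L)` -/
theorem T1.norm_ax (kf : KF34.{u}) (h : T1 x a L S) {c : G} (hca : c * a = a * c) (hcx : c * x = x * c) :
    c ∈ normalizer (L : Set G) := by
  rw [mem_normalizer_iff_cj]
  by_contra hne
  have hCa : c ∈ centralizer ({a} : Set G) := mem_centralizer_singleton_iff.mpr hca
  have hL' : IsComp (centralizer ({a} : Set G)) (cj c L) := isComp_cj_of_mem h.T.comp hCa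
  have hxL : x ∈ normalizer (L : Set G) := h.T.x_mem
  have hxL' : x ∈ normalizer (cj c L : Set G) := by
    rw [mem_normalizer_iff_cj] at hxL ⊢
    rw [← cj_mul, ← hcx, cj_mul, hxL]
  have hxC : x ∈ centralizer ({a} : Set G) := mem_centralizer_singleton_iff.mpr h.T.comm.symm
  have hxx := sq_of_order h.T.invx
  -- an involution of `L'` commuting with `x`
  obtain ⟨s, hsL', hs2, hsx⟩ : ∃ s ∈ cj c L, orderOf s = 2 ∧ s * x = x * s := by
    have h1 : IsPGroup 2 (zpowers x) := by
      apply IsPGroup.of_card (n := 1)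
      rw [Nat.card_zpowers, h.T.invx, pow_one]
    have h2 : zpowers x ≤ centralizer ({a} : Set G) ⊓ normalizer (cj c L : Set G) := by
      rw [zpowers_le]; exact ⟨hxC, hxL'⟩
    obtain ⟨R, hR, hxR⟩ := exists_isSyl h1 h2
    have h3 := hR.inf (L := cj c L) (le_inf hL'.le le_normalizer) inf_le_right
    have h4 : R ⊓ cj c L ≠ ⊥ := by
      intro h5
      have h6 := h3.dvd_card (k := 1) (by rw [pow_one]; exact hL'.even)
      rw [h5, card_bot] at h6
      exact absurd h6 (by norm_num)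
    obtain ⟨s, hs, hs2, hsc⟩ := exists_central hR.two inf_le_left (by
      intro r hr
      have h7 : r ∈ normalizer (cj c L : Set G) := (hR.le hr).2
      change r ∈ normalizer ((R ⊓ cj c L : Subgroup G) : Set G)
      rw [mem_normalizer_iff_cj] at h7 ⊢
      rw [cj_inf, h7, mem_normalizer_iff_cj.mp (le_normalizer hr)]) h4
    exact ⟨s, hs.2, hs2, (hsc x (hxR (mem_zpowers x))).symm⟩
  have hss := sq_of_order hs2
  have hs1 := ne_one_of_order hs2
  have hsa : s * a = a * s := mem_centralizer_singleton_iff.mp (hL'.le hsL')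
  have hsF : Fixes s L := h.T.comp.fixes_of_mem hL' (fun h => hne h.symm) hsL'
  -- conjugate into `S`
  have h1 : IsPGroup 2 (zpowers s) := by
    apply IsPGroup.of_card (n := 1)
    rw [Nat.card_zpowers, hs2, pow_one]
  obtain ⟨k, hk, hsk⟩ := h.sx.conj h1 (by
    rw [zpowers_le]
    exact ⟨⟨mem_centralizer_singleton_iff.mpr hsa, hsF.1⟩, mem_centralizer_singleton_iff.mpr hsx⟩)
  have h2 := hsk (mem_zpowers s)
  rw [mem_cj] at h2
  have hkF : Fixes (k⁻¹ * s * k) L := by
    have := fixes_conj hsF (inv_mem hk.1.2)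
    rwa [inv_inv] at this
  have h3 := h.uniq (k⁻¹ * s * k) h2.1 hkF (mem_centralizer_singleton_iff.mp h2.2) (by
    calc k⁻¹ * s * k * (k⁻¹ * s * k) = k⁻¹ * (s * s) * k := by group
      _ = 1 := by rw [hss]; group) (by
    intro h4
    apply hs1
    calc s = k * (k⁻¹ * s * k) * k⁻¹ := by group
      _ = 1 := by rw [h4]; group)
  have hka := mem_centralizer_singleton_iff.mp hk.1.1
  have h4 : s = a := by
    calc s = k * (k⁻¹ * s * k) * k⁻¹ := by group
      _ = k * a * k⁻¹ := by rw [h3]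
      _ = a := by rw [hka, mul_inv_cancel_right]
  -- `a ∈ L'`, so `a ∈ L`
  rw [h4, mem_cj] at hsL'
  have h5 : c⁻¹ * a * c = a := by
    calc c⁻¹ * a * c = c⁻¹ * (a * c) := by group
      _ = c⁻¹ * (c * a) := by rw [hca]
      _ = a := by group
  rw [h5] at hsL'
  have h6 : MulAut.conj (QuotientGroup.mk ⟨a, hsL'⟩ : Bar L) = 1 := by
    rw [← act_of_mem hsL', act_eq_one_iff]
    exact fixes_self' h.T.comp.le
  have h7 := mk_center kf h.T h.l34 h6
  rw [mk_eq_one_iff hsL'] at h7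
  exact ne_one_of_order h.T.inva (eq_one_of_mem_core_sq h7 (sq_of_order h.T.inva))

end

end Cfsg.Agent.UGT.LSup
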