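import Cfsg.Agent.OddHalf.D4.MaxClassFix

/-!
# 2-groups with an involutory automorphism fixing two elements: `q ~ q a`

`Q` normal in the 2-group `T`, `x ∉ Q` an involution, `C_Q(x) = {1, a}`, `a` central in `Q⟨x⟩`. Every involution
`q ≠ a` of `Q` is conjugate to `q a`.
-/

set_option autoImplicit false

namespace Cfsg.Agent.UGT.L34

open Subgroup
open Cfsg.Agent.GH.TOne (four mem_four card_four left_mem_four right_mem_four)

theorem suz_aux {X : Type*} [Group X] [Finite X] (hX : IsPGroup 2 X) (R : Subgroup X) {a z c : X}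
    (ha : a * a = 1) (haR : a ∉ R) (hR : ∀ x, x ∉ R → x * a ∈ R) (hz : z ∈ R) (hz2 : z * z = 1) (hz1 : z ≠ 1)
    (hza : ∀ x, x * z = z * x) (hfix : ∀ x ∈ R, x * a = a * x → x = 1 ∨ x = z)
    (hc : c ∈ R) (hc2 : c * c = 1) (hc1 : c ≠ 1) (hcz : c ≠ z) :
    ∃ n : X, n * c * n⁻¹ = c * z := by
  classical
  have : Fact (Nat.Prime 2) := ⟨Nat.prime_two⟩
  have ha1 : a ≠ 1 := fun h => haR (h ▸ one_mem _)
  have haz : a ≠ z := fun h => haR (h ▸ hz)
  have iz : Cfsg.Agent.GH.TOne.Inv z := ⟨hz2, hz1⟩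
  have ia : Cfsg.Agent.GH.TOne.Inv a := ⟨ha, ha1⟩
  have hai : a⁻¹ = a := inv_eq_of_mul_eq_one_left ha
  let A : Subgroup X := four a z ia iz (hza a)
  have hAcard : Nat.card A = 4 := card_four haz
  have hA2 : ∀ x ∈ A, x * x = 1 := Cfsg.Agent.GH.TOne.four_sq
  have hcen : ∀ x, x * a = a * x → x ∈ A := by
    intro x hx
    by_cases hxR : x ∈ R
    · rcases hfix x hxR hx with h | h
      · exact Or.inl h
      · exact Or.inr (Or.inr (Or.inl h))
    · have h1 : x * a * a = a * (x * a) := by rw [← mul_assoc, ← hx]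
      rcases hfix (x * a) (hR x hxR) h1 with h | h
      · right; left
        calc x = x * a * a⁻¹ := by group
          _ = a := by rw [h, one_mul, hai]
      · right; right; right
        calc x = x * a * a⁻¹ := by group
          _ = a * z := by rw [h, hai, hza a]
  have hcA : c ∉ A := by
    rintro (h | h | h | h)
    · exact hc1 h
    · exact haR (h ▸ hc)
    · exact hcz h
    · apply haR
      have h1 : a = c * z⁻¹ := by rw [h]; group
      rw [h1]
      exact mul_mem hc (inv_mem hz)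
  have hcomm : ∀ x ∈ A, ∀ y ∈ A, x * y = y * x := fun x hx y hy =>
    Cfsg.Agent.GH.TOne.comm_of_sq hA2 hx hy
  have hnc : ¬ ∀ x, x * a = a * x := fun h => hcA (hcen c (h c))
  have hCA : centralizer (A : Set X) = A := by
    apply le_antisymm
    · intro x hx
      exact hcen x (mem_centralizer_iff.mp hx a left_mem_four).symm
    · intro x hx
      rw [mem_centralizer_iff]
      intro y hy
      exact hcomm y hy x hx
  obtain ⟨n, hn⟩ := IsPGroup.iff_card.mp hX
  have hcl := Cfsg.Agent.S0112.result n hn A (by rw [hAcard]; norm_num) hCA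
  have hn3 : 3 ≤ n := by
    by_contra hlt
    have h1 : n ≤ 2 := by omega
    have h2 : Nat.card X ≤ 4 := by
      rw [hn]
      calc 2 ^ n ≤ 2 ^ 2 := Nat.pow_le_pow_right (by norm_num) h1
        _ = 4 := by norm_num
    have h3 : A = ⊤ := Subgroup.eq_top_of_le_card A (by rw [hAcard]; exact h2)
    apply hcA
    rw [h3]
    exact mem_top c
  obtain ⟨C, hCc, hCi⟩ := Cfsg.Agent.S0113.result n hn3 hn hcl
  have hmul : ∀ {x y : X}, x * y ∈ C ↔ (x ∈ C ↔ y ∈ C) := mul_mem_iff_of_index_two hCi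
  have hCn : C.Normal := normal_of_index_eq_two hCi
  have hCcomm : ∀ x ∈ C, ∀ y ∈ C, x * y = y * x := by
    intro x hx y hy
    have := hCc.isMulCommutative
    exact congrArg Subtype.val (IsMulCommutative.is_comm.comm (⟨x, hx⟩ : C) ⟨y, hy⟩)
  have eqC := @Cfsg.Agent.OddHalf.D4.MaxClassFix.eq_of_cyclic X _ _ C
  have hzC : z ∈ C := by
    by_contra hzC
    apply hnc
    have h2 : ∀ x ∈ C, x * a = a * x := by
      by_cases haC : a ∈ C
      · intro x hx
        exact hCcomm x hx a haC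
      · have h1 : a * z ∈ C := hmul.mpr ⟨fun h => absurd h haC, fun h => absurd h hzC⟩
        intro x hx
        have h3 := hCcomm x hx _ h1
        have h4 : x * a * z = a * x * z := by
          calc x * a * z = x * (a * z) := by group
            _ = a * z * x := h3
            _ = a * (z * x) := by group
            _ = a * x * z := by rw [← hza x]; group
        exact mul_right_cancel h4
    intro x
    by_cases hx : x ∈ C
    · exact h2 x hx
    · have h5 := h2 (x * z) (hmul.mpr ⟨fun h => absurd h hx, fun h => absurd h hzC⟩)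
      have h6 : x * a * z = a * x * z := by
        calc x * a * z = x * (a * z) := by group
          _ = x * z * a := by rw [hza a]; group
          _ = a * x * z := by rw [h5]; group
      exact mul_right_cancel h6
  have hcC : c ∉ C := fun h => hcz (eqC hCc h hzC hc2 hc1 hz2 hz1)
  have hci : c⁻¹ = c := inv_eq_of_mul_eq_one_left hc2
  -- some element of `C` does not commute with `c`
  obtain ⟨r, hrC, hrc⟩ : ∃ r ∈ C, r * c ≠ c * r := by
    by_contra hall
    push Not at hall
    -- `X` is abelian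
    have hcc : ∀ y, y * c = c * y := by
      intro y
      by_cases hy : y ∈ C
      · exact hall y hy
      · have h1 : y * c ∈ C := hmul.mpr ⟨fun h => absurd h hy, fun h => absurd h hcC⟩
        have h2 := hall _ h1
        calc y * c = (y * c) * c * c⁻¹ := by group
          _ = c * (y * c) * c⁻¹ := by rw [h2]
          _ = c * y := by group
    exact hcA (hcen c (hcc a).symm)
  -- the commutators `[r ^ i, c]` form a subgroup of `C`
  let f : C →* C :=
    { toFun := fun s => ⟨s.1 * (c * s.1⁻¹ * c⁻¹), C.mul_mem s.2 (hCn.conj_mem _ (C.inv_mem s.2) c)⟩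
      map_one' := Subtype.ext (by
        change (1 : X) * (c * 1⁻¹ * c⁻¹) = 1
        group)
      map_mul' := fun s t => Subtype.ext (by
        change (s.1 * t.1) * (c * (s.1 * t.1)⁻¹ * c⁻¹) = s.1 * (c * s.1⁻¹ * c⁻¹) * (t.1 * (c * t.1⁻¹ * c⁻¹))
        have h1 := hCcomm t.1 t.2 (c * s.1⁻¹ * c⁻¹) (hCn.conj_mem _ (C.inv_mem s.2) c)
        have h2 := hCcomm (c * t.1⁻¹ * c⁻¹) (hCn.conj_mem _ (C.inv_mem t.2) c) (c * s.1⁻¹ * c⁻¹)
          (hCn.conj_mem _ (C.inv_mem s.2) c)
        calc (s.1 * t.1) * (c * (s.1 * t.1)⁻¹ * c⁻¹) =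
            s.1 * t.1 * ((c * t.1⁻¹ * c⁻¹) * (c * s.1⁻¹ * c⁻¹)) := by group
          _ = s.1 * t.1 * ((c * s.1⁻¹ * c⁻¹) * (c * t.1⁻¹ * c⁻¹)) := by rw [h2]
          _ = s.1 * (t.1 * (c * s.1⁻¹ * c⁻¹)) * (c * t.1⁻¹ * c⁻¹) := by group
          _ = s.1 * ((c * s.1⁻¹ * c⁻¹) * t.1) * (c * t.1⁻¹ * c⁻¹) := by rw [h1]
          _ = _ := by group) }
  have hfr : f ⟨r, hrC⟩ ≠ 1 := by
    intro h
    have h1 : r * (c * r⁻¹ * c⁻¹) = 1 := congrArg Subtype.val h
    apply hrc
    calc r * c = (r * (c * r⁻¹ * c⁻¹)) * (c * r) := by group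
      _ = c * r := by rw [h1, one_mul]
  -- a nontrivial subgroup of `C` contains `z`
  have hCp : IsPGroup 2 C := hX.to_subgroup C
  obtain ⟨y, hyr, hy2, hy1⟩ : ∃ y ∈ f.range, y * y = 1 ∧ y ≠ 1 := by
    obtain ⟨m, hm⟩ := hCp (f ⟨r, hrC⟩)
    obtain ⟨k, hk⟩ : ∃ k, (f ⟨r, hrC⟩) ^ (2 ^ k) ≠ 1 ∧ (f ⟨r, hrC⟩) ^ (2 ^ (k + 1)) = 1 := by
      by_contra hno
      push Not at hno
      have h1 : ∀ k, (f ⟨r, hrC⟩) ^ (2 ^ k) ≠ 1 := by
        intro k
        induction k with
        | zero => rw [pow_zero, pow_one]; exact hfr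
        | succ k ih => exact hno k ih
      exact h1 m hm
    refine ⟨(f ⟨r, hrC⟩) ^ (2 ^ k), f.range.pow_mem ⟨_, rfl⟩ _, ?_, hk.1⟩
    rw [← pow_two, ← pow_mul, ← pow_succ]
    exact hk.2
  have hyz : (y : X) = z := by
    apply eqC hCc y.2 hzC
    · exact congrArg Subtype.val hy2
    · intro h; exact hy1 (Subtype.ext h)
    · exact hz2
    · exact hz1
  obtain ⟨s, hs⟩ := hyr
  have h1 : s.1 * (c * s.1⁻¹ * c⁻¹) = z := by rw [← hyz, ← hs]; rfl
  refine ⟨s.1, ?_⟩
  calc s.1 * c * s.1⁻¹ = (s.1 * (c * s.1⁻¹ * c⁻¹)) * c := by group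
    _ = z * c := by rw [h1]
    _ = c * z := (hza c).symm

/-- **Suzuki**: `Q` normal, `C_Q(x) = {1, a}`: every involution `q ≠ a` of `Q` is conjugate to `q a`. -/
theorem suz {T : Type*} [Group T] [Finite T] (hT : IsPGroup 2 T) (Q : Subgroup T) (hQ : Q.Normal) {x a q : T}
    (hx : x * x = 1) (hxQ : x ∉ Q) (ha : a ∈ Q) (haa : a * a = 1) (ha1 : a ≠ 1) (hac : ∀ t, t * a = a * t)
    (hfix : ∀ r ∈ Q, r * x = x * r → r = 1 ∨ r = a) (hq : q ∈ Q) (hqq : q * q = 1) (hq1 : q ≠ 1)
    (hqa : q ≠ a) : ∃ n : T, n * q * n⁻¹ = q * a := by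
  have hxi : x⁻¹ = x := inv_eq_of_mul_eq_one_left hx
  let D : Subgroup T :=
    { carrier := {t | t ∈ Q ∨ t * x ∈ Q}
      mul_mem' := by
        rintro s t (hs | hs) (ht | ht)
        · exact Or.inl (Q.mul_mem hs ht)
        · exact Or.inr (by rw [mul_assoc]; exact Q.mul_mem hs ht)
        · refine Or.inr ?_
          have h1 := hQ.conj_mem t ht x
          have h2 : s * t * x = (s * x) * (x * t * x⁻¹) := by
            rw [hxi]
            calc s * t * x = s * (x * x) * t * x := by rw [hx, mul_one]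
              _ = _ := by group
          rw [h2]
          exact Q.mul_mem hs h1
        · refine Or.inl ?_
          have h1 := hQ.conj_mem (t * x) ht x
          have h2 : s * t = (s * x) * (x * (t * x) * x⁻¹) := by
            rw [hxi]
            calc s * t = s * (x * x) * t * (x * x) := by rw [hx, mul_one, mul_one]
              _ = _ := by group
          rw [h2]
          exact Q.mul_mem hs h1
      one_mem' := Or.inl Q.one_mem
      inv_mem' := by
        rintro t (ht | ht)
        · exact Or.inl (Q.inv_mem ht)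
        · refine Or.inr ?_
          have h1 := hQ.conj_mem _ (Q.inv_mem ht) x
          have h2 : t⁻¹ * x = x * (t * x)⁻¹ * x⁻¹ := by
            rw [mul_inv_rev, hxi, ← mul_assoc, hx, one_mul]
          rw [h2]; exact h1 }
  have hxD : x ∈ D := Or.inr (by rw [hx]; exact Q.one_mem)
  obtain ⟨n, hn⟩ := suz_aux (X := ↥D) (hT.to_subgroup D) (Q.subgroupOf D) (a := ⟨x, hxD⟩) (z := ⟨a, Or.inl ha⟩)
    (c := ⟨q, Or.inl hq⟩) (Subtype.ext hx) hxQ
    (by
      rintro ⟨t, ht⟩ htQ
      rcases ht with ht | ht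
      · exact absurd ht htQ
      · exact ht)
    ha (Subtype.ext haa) (fun h => ha1 (congrArg Subtype.val h))
    (fun t => Subtype.ext (hac t.1))
    (by
      rintro ⟨t, ht⟩ htQ hc
      rcases hfix t htQ (congrArg Subtype.val hc) with h | h
      · exact Or.inl (Subtype.ext h)
      · exact Or.inr (Subtype.ext h))
    hq (Subtype.ext hqq) (fun h => hq1 (congrArg Subtype.val h)) (fun h => hqa (congrArg Subtype.val h))
  exact ⟨n.1, congrArg Subtype.val hn⟩

end Cfsg.Agent.UGT.L34
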