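import Cfsg.Agent.UGT.L34.TwoGp
import Cfsg.Agent.UGT.L34.Suz

/-!
# The Sylow 2-subgroup in case T1: `a`, `b`, `ab` are not conjugate
-/

set_option autoImplicit false

open Subgroup

namespace Cfsg.Agent.UGT.L34

variable {G : Type*} [Group G]

/-- `S` a Sylow 2-subgroup of `G` with a model `ψ`, `x ∈ S` a unitary polarity, `a ∈ Z(S)` the only involution of
`C_Q(x)`, `b` the central involution of `C_P(x)`. -/
structure Ctx (S : Subgroup G) (ψ : ↥S →* E) (P : Subgroup ↥S) (x a b : ↥S) : Prop where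
  pg : IsPGroup 2 ↥S
  syl : ¬ 2 ∣ S.index
  mod : Mod ψ P
  hx : ψ x = px
  xx : x * x = 1
  ha : ψ a = 1
  a1 : a ≠ 1
  aa : a * a = 1
  ac : ∀ s : ↥S, s * a = a * s
  uniq : ∀ q : ↥S, ψ q = 1 → q * x = x * q → q * q = 1 → q ≠ 1 → q = a
  hbP : b ∈ P
  hb : ψ b = pb

section

variable {S : Subgroup G} {ψ : ↥S →* E} {P : Subgroup ↥S} {x a b : ↥S}

theorem Ctx.bb (C : Ctx S ψ P x a b) : b * b = 1 := by
  apply C.mod.inj _ (P.mul_mem C.hbP C.hbP)
  rw [map_mul, C.hb, pb_sq]

theorem Ctx.b1 (C : Ctx S ψ P x a b) : b ≠ 1 := by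
  intro h
  have h1 := C.hb
  rw [h, map_one] at h1
  exact pb_ne h1.symm

theorem Ctx.bc (C : Ctx S ψ P x a b) (s : ↥S) : s * b = b * s := by
  have h1 : s * b * s⁻¹ = b := by
    apply C.mod.ext (C.mod.norm s b C.hbP) C.hbP
    rw [map_mul, map_mul, map_inv, C.hb, ← pb_central, mul_inv_cancel_right]
  calc s * b = s * b * s⁻¹ * s := by group
    _ = b * s := by rw [h1]

theorem Ctx.ab_ne (C : Ctx S ψ P x a b) : a ≠ b := by
  intro h
  have h1 := C.hb
  rw [← h, C.ha] at h1
  exact pb_ne h1.symm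

theorem Ctx.ba_ne_one (C : Ctx S ψ P x a b) : b * a ≠ 1 := by
  intro h
  have h1 := congrArg ψ h
  rw [map_mul, C.ha, C.hb, mul_one, map_one] at h1
  exact pb_ne h1

/-- elements of the kernel commuting with `x` and of square one -/
theorem Ctx.ker_cases (C : Ctx S ψ P x a b) {q : ↥S} (hq : ψ q = 1) (hqx : q * x = x * q)
    (hqq : q * q = 1) : q = 1 ∨ q = a := by
  by_cases h : q = 1
  · exact Or.inl h
  · exact Or.inr (C.uniq q hq hqx hqq h)

/-- central involutions of `S` -/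
theorem Ctx.central_cases (C : Ctx S ψ P x a b) {z : ↥S} (hz : z * z = 1) (hc : ∀ s, s * z = z * s) :
    z = 1 ∨ z = a ∨ z = b ∨ z = b * a := by
  have h1 : ψ z = 1 ∨ ψ z = pb := by
    apply cent_top
    · intro u hu
      obtain ⟨p, -, rfl⟩ := C.mod.surj u hu
      rw [← map_mul, ← map_mul, hc]
    · rw [← C.hx, ← map_mul, ← map_mul, hc]
  rcases h1 with h1 | h1
  · rcases C.ker_cases h1 (hc x).symm hz with h | h
    · exact Or.inl h
    · exact Or.inr (Or.inl h)
  · have hbi : b⁻¹ = b := inv_eq_of_mul_eq_one_left C.bb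
    have h2 : b * (b * z) = z := by rw [← mul_assoc, C.bb, one_mul]
    have h3 : ψ (b * z) = 1 := by rw [map_mul, h1, C.hb, pb_sq]
    have h4 : (b * z) * (b * z) = 1 := by
      calc (b * z) * (b * z) = b * (z * b) * z := by group
        _ = b * (b * z) * z := by rw [← hc b]
        _ = (b * b) * (z * z) := by group
        _ = 1 := by rw [C.bb, hz, one_mul]
    have h5 : (b * z) * x = x * (b * z) := by
      calc (b * z) * x = b * (z * x) := by group
        _ = b * (x * z) := by rw [hc]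
        _ = (b * x) * z := by group
        _ = (x * b) * z := by rw [C.bc]
        _ = _ := by group
    rcases C.ker_cases h3 h5 h4 with h | h
    · right; right; left
      rw [← h2, h, mul_one]
    · right; right; right
      rw [← h2, h]

/-- involutions of the centre of `C_S(x)` -/
theorem Ctx.cx_cases (C : Ctx S ψ P x a b) {z : ↥S} (hz : z * z = 1) (hzx : z * x = x * z)
    (hc : ∀ p ∈ P, p * x = x * p → z * p = p * z) :
    ∃ z0 : ↥S, (z0 = 1 ∨ z0 = a ∨ z0 = b ∨ z0 = b * a) ∧ (z = z0 ∨ z = x * z0) := by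
  have hlift : ∀ u ∈ U, u * px = px * u → ∃ p ∈ P, ψ p = u ∧ p * x = x * p := by
    intro u hu hux
    obtain ⟨p, hp, rfl⟩ := C.mod.surj u hu
    refine ⟨p, hp, rfl, ?_⟩
    have h1 : x * p * x⁻¹ = p := by
      apply C.mod.ext (C.mod.norm x p hp) hp
      rw [map_mul, map_mul, map_inv, C.hx, ← hux, mul_inv_cancel_right]
    calc p * x = x * p * x⁻¹ * x := by rw [h1]
      _ = x * p := by group
  obtain ⟨w1, hw1, e1, hw1x⟩ := hlift q1 q1_mem q1_px
  obtain ⟨w2, hw2, e2, hw2x⟩ := hlift q2 q2_mem q2_px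
  have h1 : ψ z = 1 ∨ ψ z = pb ∨ ψ z = px ∨ ψ z = px * pb := by
    apply cent_x
    · rw [← C.hx, ← map_mul, ← map_mul, hzx]
    · rw [← e1, ← map_mul, ← map_mul, hc w1 hw1 hw1x]
    · rw [← e2, ← map_mul, ← map_mul, hc w2 hw2 hw2x]
  have hxi : x⁻¹ = x := inv_eq_of_mul_eq_one_left C.xx
  have hbx := C.bc x
  have hbz := C.bc z
  -- reduce to the kernel
  have key : ∀ w : ↥S, w * w = 1 → w * x = x * w → ψ w = 1 ∨ ψ w = pb →
      (w = 1 ∨ w = a ∨ w = b ∨ w = b * a) := by
    intro w hw hwx hψ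
    rcases hψ with h1 | h1
    · rcases C.ker_cases h1 hwx hw with h | h
      · exact Or.inl h
      · exact Or.inr (Or.inl h)
    · have hbw := C.bc w
      have h2 : b * (b * w) = w := by rw [← mul_assoc, C.bb, one_mul]
      have h3 : ψ (b * w) = 1 := by rw [map_mul, h1, C.hb, pb_sq]
      have h4 : (b * w) * (b * w) = 1 := by
        calc (b * w) * (b * w) = b * (w * b) * w := by group
          _ = b * (b * w) * w := by rw [hbw]
          _ = (b * b) * (w * w) := by group
          _ = 1 := by rw [C.bb, hw, one_mul]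
      have h5 : (b * w) * x = x * (b * w) := by
        calc (b * w) * x = b * (w * x) := by group
          _ = b * (x * w) := by rw [hwx]
          _ = (b * x) * w := by group
          _ = (x * b) * w := by rw [hbx]
          _ = _ := by group
      rcases C.ker_cases h3 h5 h4 with h | h
      · right; right; left
        rw [← h2, h, mul_one]
      · right; right; right
        rw [← h2, h]
  rcases h1 with h1 | h1 | h1 | h1
  · exact ⟨z, key z hz hzx (Or.inl h1), Or.inl rfl⟩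
  · exact ⟨z, key z hz hzx (Or.inr h1), Or.inl rfl⟩
  all_goals
    have hxz : x * (x * z) = z := by rw [← mul_assoc, C.xx, one_mul]
    have h4 : (x * z) * (x * z) = 1 := by
      calc (x * z) * (x * z) = x * (z * x) * z := by group
        _ = x * (x * z) * z := by rw [hzx]
        _ = (x * x) * (z * z) := by group
        _ = 1 := by rw [C.xx, hz, one_mul]
    have h5 : (x * z) * x = x * (x * z) := by rw [mul_assoc, hzx]
  · refine ⟨x * z, key (x * z) h4 h5 (Or.inl (by rw [map_mul, h1, C.hx, px_sq])), Or.inr hxz.symm⟩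
  · refine ⟨x * z, key (x * z) h4 h5 (Or.inr ?_), Or.inr hxz.symm⟩
    rw [map_mul, h1, C.hx, ← mul_assoc, px_sq, one_mul]

/-- the quaternion generators of `C_P(x)` -/
theorem Ctx.exists_w (C : Ctx S ψ P x a b) : ∃ w1 ∈ P, ∃ w2 ∈ P, w1 * x = x * w1 ∧ w2 * x = x * w2 ∧
    ψ w1 = q1 ∧ ψ w2 = q2 ∧ w1 * w1 = b ∧ w2 * w2 = b ∧ w1 * w2 * w1⁻¹ * w2⁻¹ = b := by
  have hlift : ∀ u ∈ U, u * px = px * u → ∃ p ∈ P, ψ p = u ∧ p * x = x * p := by
    intro u hu hux
    obtain ⟨p, hp, rfl⟩ := C.mod.surj u hu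
    refine ⟨p, hp, rfl, ?_⟩
    have h1 : x * p * x⁻¹ = p := by
      apply C.mod.ext (C.mod.norm x p hp) hp
      rw [map_mul, map_mul, map_inv, C.hx, ← hux, mul_inv_cancel_right]
    calc p * x = x * p * x⁻¹ * x := by rw [h1]
      _ = x * p := by group
  obtain ⟨w1, hw1, e1, hw1x⟩ := hlift q1 q1_mem q1_px
  obtain ⟨w2, hw2, e2, hw2x⟩ := hlift q2 q2_mem q2_px
  refine ⟨w1, hw1, w2, hw2, hw1x, hw2x, e1, e2, ?_, ?_, ?_⟩
  · apply C.mod.ext (P.mul_mem hw1 hw1) C.hbP
    rw [map_mul, e1, q1_sq, C.hb]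
  · apply C.mod.ext (P.mul_mem hw2 hw2) C.hbP
    rw [map_mul, e2, q2_sq, C.hb]
  · apply C.mod.ext (P.mul_mem (P.mul_mem (P.mul_mem hw1 hw2) (P.inv_mem hw1)) (P.inv_mem hw2)) C.hbP
    rw [map_mul, map_mul, map_mul, map_inv, map_inv, e1, e2, q_comm, C.hb]

/-- `x` and `x b` are conjugate under `P` -/
theorem Ctx.exists_p (C : Ctx S ψ P x a b) : ∃ p ∈ P, p * x * p⁻¹ = x * b := by
  obtain ⟨u, hu, h⟩ := conj_px
  obtain ⟨p, hp, rfl⟩ := C.mod.surj u hu
  refine ⟨p, hp, ?_⟩
  have hxi : x⁻¹ = x := inv_eq_of_mul_eq_one_left C.xx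
  have h1 : p * (x * p⁻¹ * x⁻¹) = b := by
    apply C.mod.ext (P.mul_mem hp (C.mod.norm x _ (P.inv_mem hp))) C.hbP
    have h2 : p * (x * p⁻¹ * x⁻¹) = (p * x * p⁻¹) * x⁻¹ := by group
    rw [h2, map_mul, map_mul, map_mul, map_inv, map_inv, C.hx, h, C.hb, ← pb_central, mul_inv_cancel_right]
  calc p * x * p⁻¹ = (p * (x * p⁻¹ * x⁻¹)) * x := by group
    _ = b * x := by rw [h1]
    _ = x * b := (C.bc x).symm

/-- an elementary abelian subgroup of `S` commuting with `x` has order at most 16 -/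
theorem Ctx.card_le (C : Ctx S ψ P x a b) [Finite G] {V : Subgroup ↥S} (hV : Elem V)
    (hx : ∀ v ∈ V, v * x = x * v) : Nat.card V ≤ 16 := by
  rw [card_eq_inf_mul_map ψ V]
  have h1 : Nat.card (V.map ψ) ≤ 8 := by
    apply card_le_eight (elem_map hV ψ)
    rintro _ ⟨v, hv, rfl⟩
    rw [← C.hx, ← map_mul, ← map_mul, hx v hv]
  have h2 : Nat.card (V ⊓ ψ.ker : Subgroup ↥S) ≤ 2 := by
    classical
    have hf : ∀ s : (V ⊓ ψ.ker : Subgroup ↥S), s.1 = 1 ∨ s.1 = a := fun s =>
      C.ker_cases s.2.2 (hx _ s.2.1) (hV.1 _ s.2.1)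
    have hinj : Function.Injective (fun s : (V ⊓ ψ.ker : Subgroup ↥S) => decide (s.1 = 1)) := by
      intro s t h
      have h' : decide (s.1 = 1) = decide (t.1 = 1) := h
      rw [decide_eq_decide] at h'
      apply Subtype.ext
      rcases hf s with h1 | h1
      · rw [h1, h'.mp h1]
      · rcases hf t with h2 | h2
        · rw [h'.mpr h2, h2]
        · rw [h1, h2]
    have h4 := Nat.card_le_card_of_injective _ hinj
    have h5 : Nat.card Bool = 2 := by rw [Nat.card_eq_fintype_card]; rfl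
    rwa [h5] at h4
  calc Nat.card (V ⊓ ψ.ker : Subgroup ↥S) * Nat.card (V.map ψ) ≤ 2 * 8 := Nat.mul_le_mul h2 h1
    _ = 16 := by norm_num

/-- the automorphism of `S` induced by an element of `N(S)` -/
theorem exists_aut {S : Subgroup G} {n : G} (hn : n ∈ normalizer (S : Set G)) :
    ∃ ν : ↥S ≃* ↥S, ∀ s : ↥S, ((ν s : ↥S) : G) = n * s * n⁻¹ := by
  have h1 : ∀ s : ↥S, n * s * n⁻¹ ∈ S := fun s => (mem_normalizer_iff.mp hn s).mp s.2
  have h2 : ∀ s : ↥S, n⁻¹ * s * n ∈ S := fun s => by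
    refine (mem_normalizer_iff.mp hn _).mpr ?_
    have : n * (n⁻¹ * s * n) * n⁻¹ = s := by group
    rw [this]; exact s.2
  refine ⟨{ toFun := fun s => ⟨n * s * n⁻¹, h1 s⟩
            invFun := fun s => ⟨n⁻¹ * s * n, h2 s⟩
            left_inv := fun s => Subtype.ext (by
              change n⁻¹ * (n * s * n⁻¹) * n = s
              group)
            right_inv := fun s => Subtype.ext (by
              change n * (n⁻¹ * s * n) * n⁻¹ = s
              group)
            map_mul' := fun s t => Subtype.ext (by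
              change n * (s * t) * n⁻¹ = (n * s * n⁻¹) * (n * t * n⁻¹)
              group) }, fun s => rfl⟩

/-- `N(S)` centralizes `a` and `b` -/
theorem Ctx.norm_fix [Finite G] (C : Ctx S ψ P x a b) {n : G} (hn : n ∈ normalizer (S : Set G)) :
    n * a * n⁻¹ = a ∧ n * b * n⁻¹ = b := by
  obtain ⟨ν, hν⟩ := exists_aut hn
  obtain ⟨μ, hμ⟩ := exists_aut (inv_mem hn)
  have hnot : ν b ≠ b * a := C.mod.not_fusion C.ha C.a1 C.hbP C.hb ν
  have hnot' : μ b ≠ b * a := C.mod.not_fusion C.ha C.a1 C.hbP C.hb μ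
  have hμν : ∀ s, μ (ν s) = s := fun s => Subtype.ext (by
    rw [hμ, hν]; group)
  have hcen : ∀ z : ↥S, z * z = 1 → (∀ s, s * z = z * s) →
      ν z = 1 ∨ ν z = a ∨ ν z = b ∨ ν z = b * a := by
    intro z hz hc
    apply C.central_cases
    · rw [← map_mul, hz, map_one]
    · intro s
      obtain ⟨t, rfl⟩ := ν.surjective s
      rw [← map_mul, ← map_mul, hc]
  have h1 : ∀ z : ↥S, z ≠ 1 → ν z ≠ 1 := fun z hz h => hz (ν.injective (h.trans (map_one ν).symm))
  have hiffn : ∀ z z' : ↥S, ν z = z' → (n : G) * z * n⁻¹ = z' := fun z z' h => by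
    rw [← hν, h]
  -- an odd power of `n` is in `S`
  obtain ⟨j, hjo, hj⟩ : ∃ j : ℕ, Odd j ∧ n ^ j ∈ S := by
    let N := normalizer (S : Set G)
    have hle : S ≤ N := le_normalizer
    have hidx : ¬ 2 ∣ (S.subgroupOf N).index := by
      intro h
      apply C.syl
      have h3 := Subgroup.relIndex_mul_index hle
      rw [← h3]
      exact Dvd.dvd.mul_right h _
    have hnor : (S.subgroupOf N).Normal := by
      constructor
      intro s hs g
      rw [mem_subgroupOf] at hs ⊢
      exact (mem_normalizer_iff.mp g.2 s).mp hs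
    refine ⟨(S.subgroupOf N).index, ?_, ?_⟩
    · rw [← Nat.not_even_iff_odd, even_iff_two_dvd]; exact hidx
    · have h4 := Subgroup.pow_index_mem (S.subgroupOf N) (⟨n, hn⟩ : N)
      exact h4
  have hnj : ∀ z : ↥S, (∀ s, s * z = z * s) → (n ^ j) * (z : G) = z * n ^ j := by
    intro z hz
    exact congrArg Subtype.val (hz ⟨n ^ j, hj⟩)
  -- an element whose square centralizes `z` centralizes `z`
  have hsq : ∀ z : ↥S, (∀ s, s * z = z * s) → ν (ν z) = z → ν z = z := by
    intro z hz h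
    have e2 : n ^ 2 * (z : G) = z * n ^ 2 := by
      have h2 : n * (n * z * n⁻¹) * n⁻¹ = z := by
        rw [← hν z, ← hν (ν z), h]
      calc n ^ 2 * (z : G) = (n * (n * z * n⁻¹) * n⁻¹) * n ^ 2 := by rw [pow_two]; simp only [mul_assoc, inv_mul_cancel_left, inv_mul_cancel, mul_one]
        _ = z * n ^ 2 := by rw [h2]
    obtain ⟨k, hk⟩ := hjo
    have e3 : Commute (n ^ (2 * k)) (z : G) := by
      rw [pow_mul]
      exact Commute.pow_left (show Commute (n ^ 2) (z : G) from e2) k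
    have e4 : Commute (n ^ j) (z : G) := hnj z hz
    have e5 : n = n ^ j * (n ^ (2 * k))⁻¹ := by
      rw [hk, pow_add, pow_one]
      have : (n ^ (2 * k)) * n = n * n ^ (2 * k) := (Commute.pow_self n (2 * k)).eq
      rw [this]; group
    have e6 : Commute n (z : G) := by
      rw [e5]
      exact Commute.mul_left e4 e3.inv_left
    apply Subtype.ext
    rw [hν, e6.eq, mul_inv_cancel_right]
  have hba : ∀ s, s * (b * a) = (b * a) * s := fun s => by
    rw [← mul_assoc, C.bc, mul_assoc, C.ac, mul_assoc]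
  have hbaba : (b * a) * (b * a) = 1 := by
    calc (b * a) * (b * a) = b * (a * b) * a := by group
      _ = b * (b * a) * a := by rw [C.bc a]
      _ = (b * b) * (a * a) := by group
      _ = 1 := by rw [C.bb, C.aa, one_mul]
  have h6 : b * a * a = b := by rw [mul_assoc, C.aa, mul_one]
  have h7 : b * (b * a) = a := by rw [← mul_assoc, C.bb, one_mul]
  have h8 : a * (b * a) = b := by rw [hba, h6]
  have hfin : ν a = a ∧ ν b = b := by
    rcases hcen b C.bb C.bc with hb | hb | hb | hb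
    · exact absurd hb (h1 b C.b1)
    · -- `b ↦ a`
      rcases hcen a C.aa C.ac with h | h | h | h
      · exact absurd h (h1 a C.a1)
      · exact absurd (ν.injective (h.trans hb.symm)) C.ab_ne
      · -- swap
        have h2 := hsq b C.bc (by rw [hb, h])
        rw [hb] at h2
        exact absurd h2 C.ab_ne
      · -- `a ↦ ba`, `b ↦ a`
        exfalso
        apply hnot'
        have h3 : ν (b * a) = b := by rw [map_mul, hb, h, h8]
        rw [← hμν (b * a), h3]
    · -- `b ↦ b`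
      rcases hcen a C.aa C.ac with h | h | h | h
      · exact absurd h (h1 a C.a1)
      · exact ⟨h, hb⟩
      · exact absurd (ν.injective (h.trans hb.symm)) C.ab_ne
      · have h2 := hsq a C.ac (by rw [h, map_mul, hb, h, h7])
        rw [h] at h2
        exact absurd h2 (fun h3 => C.b1 (mul_eq_right.mp h3))
    · exact absurd hb hnot
  exact ⟨hiffn a a hfin.1, hiffn b b hfin.2⟩

/-- **(F2)** central involutions of `S` conjugate in `G` are equal. -/
theorem Ctx.eq_of_conj [Finite G] (C : Ctx S ψ P x a b) {z z' : ↥S} (hz : z * z = 1)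
    (hc : ∀ s, s * z = z * s) (hc' : ∀ s, s * z' = z' * s) (h : IsConj (z : G) (z' : G)) : z = z' := by
  have : Fact (Nat.Prime 2) := ⟨Nat.prime_two⟩
  let S' : Sylow 2 G := C.pg.toSylow C.syl
  have hS' : (S' : Subgroup G) = S := rfl
  obtain ⟨g, hg⟩ := isConj_iff.mp h
  have hcG : ∀ z : ↥S, (∀ s, s * z = z * s) → (z : G) ∈ centralizer (S : Set G) := by
    intro z hz
    rw [mem_centralizer_iff]
    intro s hs
    exact congrArg Subtype.val (hz ⟨s, hs⟩)
  obtain ⟨n, hn, hn2⟩ := Sylow.conj_eq_normalizer_conj_of_mem_centralizer S' (z : G) g⁻¹ (hcG z hc) (by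
    rw [inv_inv, hg]; exact hcG z' hc')
  rw [inv_inv, hg] at hn2
  have hn' : n⁻¹ ∈ normalizer (S : Set G) := inv_mem hn
  obtain ⟨h1, h2⟩ := C.norm_fix hn'
  rw [inv_inv] at h1 h2
  have h3 : n⁻¹ * ((b * a : ↥S) : G) * n = (b * a : ↥S) := by
    change n⁻¹ * ((b : G) * a) * n = b * a
    calc n⁻¹ * ((b : G) * a) * n = (n⁻¹ * b * n) * (n⁻¹ * a * n) := by group
      _ = b * a := by rw [h1, h2]
  apply Subtype.ext
  rw [hn2]
  rcases C.central_cases hz hc with rfl | rfl | rfl | rfl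
  · rw [OneMemClass.coe_one, mul_one, inv_mul_cancel]
  · exact h1.symm
  · exact h2.symm
  · exact h3.symm

end

end Cfsg.Agent.UGT.L34
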