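import Cfsg.Agent.UGT.L34.Inst
import Cfsg.Agent.UGT.NoGamma

/-!
# A triple of type `L₃(4)` in a minimal counterexample: `G = X⟨x⟩`

* `sup_eq_top34`: case (ga) of the trichotomy is impossible.
* `dichotomy34`: `X = G`, or `x ∉ X`, `G = X ∪ x X` and all `C(t)`, `t ∈ X` an involution, are core-free.
-/

set_option autoImplicit false
set_option linter.unusedVariables false

open Cfsg Subgroup
open Cfsg.Agent.SignalizersComponents Cfsg.Agent.Lib
open Cfsg.Agent.SignalizersComponents.IntrinsicBasic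
open Cfsg.Agent.SignalizersComponents.IntrinsicIntr
open Cfsg.Agent.SignalizersComponents.PLayerAut
open Cfsg.Agent.Intrinsic.Basic Cfsg.Agent.Intrinsic.Cen Cfsg.Agent.Intrinsic.Diag
open Cfsg.Agent.McLLyComp.Act
open Cfsg.Agent.FixBN.BTheorem Cfsg.Agent.FixBN.BRelative
open Cfsg.Agent.UGT.Triple Cfsg.Agent.UGT.TriBase
open Cfsg.Agent.UGT.Iface (Bar IsL34 MinCex)
open Cfsg.Agent.UGT.LTF.Defs (KF34 FT OddC)

namespace Cfsg.Agent.UGT.LSup

universe u

local notation "Fs" => generalizedFittingSubgroup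

variable {G : Type u} [Group G] [Finite G] {x a : G} {L : Subgroup G}

/-- an involution of `L` commuting with `x` -/
theorem exists_inv_comm (T : IsTriple x a L) : ∃ s ∈ L, orderOf s = 2 ∧ s * x = x * s := by
  have h1 : IsPGroup 2 (zpowers x) := by
    apply IsPGroup.of_card (n := 1)
    rw [Nat.card_zpowers, T.invx, pow_one]
  have h2 : zpowers x ≤ normalizer (L : Set G) := by
    rw [zpowers_le]; exact T.x_mem
  obtain ⟨R, hR, hxR⟩ := exists_isSyl h1 h2
  have h3 := hR.inf (L := L) le_normalizer le_rfl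
  have h4 : R ⊓ L ≠ ⊥ := by
    intro h5
    have h6 := h3.dvd_card (k := 1) (by rw [pow_one]; exact T.comp.even)
    rw [h5, card_bot] at h6
    exact absurd h6 (by norm_num)
  obtain ⟨s, hs, hs2, hsc⟩ := exists_central hR.two inf_le_left (by
    intro r hr
    have h7 : r ∈ normalizer (L : Set G) := hR.le hr
    change r ∈ normalizer ((R ⊓ L : Subgroup G) : Set G)
    rw [mem_normalizer_iff_cj] at h7 ⊢
    rw [cj_inf, h7, mem_normalizer_iff_cj.mp (le_normalizer hr)]) h4
  exact ⟨s, hs.2, hs2, (hsc x (hxR (mem_zpowers x))).symm⟩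

theorem core_ne_bot (T : IsTriple x a L) : core (centralizer ({x} : Set G)) ≠ ⊥ := by
  obtain ⟨d, hd, hda, hf⟩ := T.bad
  intro h1
  rw [h1, mem_bot] at hd
  rw [hd] at hf
  exact hf (fixes_one L)

/-- Case (ga) is impossible for the first entry of a triple of type `L₃(4)`. -/
theorem sup_eq_top34 (kf : KF34.{u}) (h : MinCex G) (T : IsTriple x a L) (h34 : IsL34 (Bar L)) :
    Fs G ⊔ zpowers x = ⊤ := by
  obtain ⟨d, hd, hda, hf⟩ := T.bad
  have F := ft_of_triple kf T h34
  rcases Trich.trichotomy h T.invx (core_ne_bot T) with h1 | h1 | ⟨-, -, h1⟩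
  · rw [eq_top_iff, ← h1]
    exact le_sup_left
  · exact h1.2.1
  · exfalso
    have hLX : L ≤ Fs G := NoGamma.le_fs T.invx (Trich.sup_eq_top h T.invx (core_ne_bot T)) T.comp
    have hdL := T.mem_normalizer_of_core hd hda
    apply hf
    rw [← act_eq_one_iff hdL]
    obtain ⟨δ, hδ⟩ : ∃ δ, δ = act L ⟨d, hdL⟩ := ⟨_, rfl⟩
    obtain ⟨ξ, hξ⟩ : ∃ ξ, ξ = act L ⟨x, T.x_mem⟩ := ⟨_, rfl⟩
    rw [← hξ] at F
    rw [← hδ]
    have hodd : Odd (orderOf δ) := by
      have h3 : orderOf (act L ⟨d, hdL⟩) ∣ orderOf (⟨d, hdL⟩ : ↥(normalizer (L : Set G))) :=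
        orderOf_map_dvd _ _
      rw [Subgroup.orderOf_mk, ← hδ] at h3
      refine Odd.of_dvd_nat ?_ h3
      have h4 := orderOf_dvd_natCard (⟨d, hd⟩ : ↥(core (centralizer ({x} : Set G))))
      rw [Subgroup.orderOf_mk] at h4
      exact Odd.of_dvd_nat (odd_card_core _) h4
    have hcomm : δ * ξ = ξ * δ := by
      rw [hδ, hξ]
      exact Res.KFacts.act_comm hdL T.x_mem (comm_c (core_le _ hd))
    have hfix : ∀ k, ξ k = k → δ k = k := by
      intro k hk
      rw [hξ] at hk
      rw [hδ]
      obtain ⟨c, hc, hcx, rfl⟩ := Res.KFacts.exists_lift T hk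
      have h2 := h1 d hd c ⟨mem_sup_left (hLX hc), mem_c hcx⟩
      rw [act_mk hdL hc]
      congr 1
      apply Subtype.ext
      change d * c * d⁻¹ = c
      rw [commutatorElement_eq_one_iff_mul_comm] at h2
      rw [h2, mul_inv_cancel_right]
    have hE : OddC ξ (zpowers δ) := by
      refine ⟨by rwa [Nat.card_zpowers], ?_, ?_⟩
      · intro e he
        obtain ⟨n, rfl⟩ := mem_zpowers_iff.mp he
        exact (Commute.zpow_left (hcomm : Commute δ ξ) n)
      · intro l hl e he
        obtain ⟨n, rfl⟩ := mem_zpowers_iff.mp he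
        have h6 : MulAut.conj l * δ = δ * MulAut.conj l := by
          apply MulEquiv.ext
          intro y
          change l * δ y * l⁻¹ = δ (l * y * l⁻¹)
          rw [map_mul, map_mul, map_inv, hfix l hl]
        have h7 : Commute (MulAut.conj l) (δ ^ n) := Commute.zpow_right h6 n
        rw [h7.eq, mul_inv_cancel_right]
        exact he
    obtain ⟨y, hy, hy3, hyx⟩ := F.core _ hE δ (mem_zpowers δ)
    obtain ⟨s, hs, hs2, hsx⟩ := exists_inv_comm T
    have hss := sq_of_order hs2
    obtain ⟨b, hb⟩ : ∃ b : Bar L, b = QuotientGroup.mk ⟨s, hs⟩ := ⟨_, rfl⟩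
    have hbb : b * b = 1 := by
      rw [hb, ← QuotientGroup.mk_mul]
      have : (⟨s, hs⟩ * ⟨s, hs⟩ : ↥L) = 1 := Subtype.ext hss
      rw [this]; rfl
    have hb1 : b ≠ 1 := by
      rw [hb]
      intro h2
      rw [mk_eq_one_iff hs] at h2
      exact ne_one_of_order hs2 (eq_one_of_mem_core_sq h2 hss)
    have hbx : ξ b = b := by
      rw [hξ, hb, act_mk T.x_mem hs]
      congr 1
      apply Subtype.ext
      change x * s * x⁻¹ = s
      rw [← hsx, mul_inv_cancel_right]
    have h2 := F.inv b y hbb hb1 hbx hy3 hyx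
    have h3 := hfix b hbx
    rw [hy] at h3
    have h4 : y * b * y⁻¹ = b := h3
    have h5 : b * y * b⁻¹ = y := by
      have : y * b = b * y := by
        calc y * b = y * b * y⁻¹ * y := by group
          _ = b * y := by rw [h4]
      rw [← this, mul_inv_cancel_right]
    have h6 : y * y = 1 := by
      rw [h5] at h2
      nth_rewrite 1 [h2]
      exact inv_mul_cancel y
    have h7 : y = 1 := by
      have h8 : y ^ 3 = y * y * y := by rw [pow_succ, pow_two]
      rw [h8, h6, one_mul] at hy3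
      exact hy3
    rw [hy, h7, map_one]

/-- **The dichotomy.** -/
theorem dichotomy34 (kf : KF34.{u}) (h : MinCex G) (T : IsTriple x a L) (h34 : IsL34 (Bar L)) :
    Fs G = ⊤ ∨ (x ∉ Fs G ∧ (∀ g, g ∈ Fs G ∨ x * g ∈ Fs G) ∧
      ∀ u ∈ Fs G, orderOf u = 2 → core (centralizer ({u} : Set G)) = ⊥) := by
  have htop := sup_eq_top34 kf h T h34
  have hXn : (Fs G).Normal := Trich.normal_fs
  have hxx := sq_of_order T.invx
  rcases Trich.trichotomy h T.invx (core_ne_bot T) with h1 | ⟨h1, -, h2⟩ | ⟨h1, -, -⟩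
  · exact Or.inl h1
  · right
    have htwo : ∀ g, g ∈ Fs G ∨ x * g ∈ Fs G := by
      intro g
      have hg : g ∈ Fs G ⊔ zpowers x := htop ▸ mem_top g
      obtain ⟨y, hy, z, hz, rfl⟩ := Subgroup.mem_sup_of_normal_left.mp hg
      obtain ⟨k, rfl⟩ := mem_zpowers_iff.mp hz
      rcases Int.even_or_odd' k with ⟨m, rfl | rfl⟩
      · left
        have : x ^ (2 * m) = 1 := by
          rw [zpow_mul]
          have : x ^ (2 : ℤ) = 1 := by rw [zpow_two, hxx]
          rw [this, one_zpow]
        rw [this, mul_one]; exact hy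
      · right
        have : x ^ (2 * m + 1) = x := by
          rw [zpow_add, zpow_mul]
          have : x ^ (2 : ℤ) = 1 := by rw [zpow_two, hxx]
          rw [this, one_zpow, one_mul, zpow_one]
        rw [this]
        have h3 := hXn.conj_mem y hy x
        have h4 : x * (y * x) = x * y * x⁻¹ := by
          rw [inv_eq_of_mul_eq_one_left hxx, mul_assoc]
        rw [h4]; exact h3
    refine ⟨h1, htwo, fun u hu hu2 => ?_⟩
    have h3 := h2 u hu hu2
    rw [eq_bot_iff, ← h3, inf_comm]
    -- an odd group lies in `X`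
    have hsq : ∀ g : G, g * g ∈ Fs G := by
      intro g
      rcases htwo g with hg | hg
      · exact mul_mem hg hg
      · have h4 : g * g = (x * (x * g) * x⁻¹) * (x * g) := by
          have hxi : x⁻¹ = x := inv_eq_of_mul_eq_one_left hxx
          rw [hxi]
          calc g * g = g * (1 * g) := by rw [one_mul]
            _ = g * ((x * x) * g) := by rw [hxx]
            _ = 1 * g * x * (x * g) := by group
            _ = (x * x) * g * x * (x * g) := by rw [hxx]
            _ = _ := by group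
        rw [h4]
        exact mul_mem (hXn.conj_mem _ hg x) hg
    intro o ho
    have hoX : o ∈ Fs G := by
      have h4 := orderOf_dvd_natCard (⟨o, ho⟩ : ↥(core (centralizer ({u} : Set G))))
      rw [Subgroup.orderOf_mk] at h4
      exact Res.PGLFacts.mem_of_sq_mem (hsq o) (Odd.of_dvd_nat (odd_card_core _) h4)
    have := PumpGen.inf_le_core' (H := Fs G) ho hoX
    rwa [inf_comm] at this
  · exact absurd htop h1

end Cfsg.Agent.UGT.LSup
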