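import Cfsg.Agent.UGT.L34.Facts
import Cfsg.Agent.StdL3.OuterFixF
import Cfsg.Agent.StdL3.OuterQuot
import Cfsg.Agent.ONType.PslCard

/-!
# `E` as a Sylow 2-subgroup of `Aut L₃(4)`

* `iota : E →* MulAut PSL3`, injective, `iota e` inner iff `e ∈ U`, the image is a Sylow 2-subgroup.
-/

set_option autoImplicit false
set_option linter.constructorNameAsVariable false
set_option linter.unusedVariables false

open Matrix
open Cfsg.Agent.ClassicalGeometry.AutPSL.Root
open Cfsg.Agent.ClassicalGeometry.AutPSL.Auto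
open Cfsg.Agent.ClassicalGeometry.AutPSL.Main
open Cfsg.Agent.SporadicA.FieldFour
open Cfsg.Agent.ONType.Psl
open Cfsg.Agent.ONType.OuterL
open Cfsg.Agent.ONType.PslCard
open Cfsg.Agent.StdL3.OuterMat
open Cfsg.Agent.StdL3.Heis (Heis)

namespace Cfsg.Agent.UGT.L34.Embed

/-! ### unitriangular elements -/

/-- the unitriangular element -/
def V (h : Cfsg.Agent.UGT.L34.H) : PSL3 := t 1 2 h.b * t 0 1 h.a * t 0 2 h.c

theorem tm_prod' (a b c : F4) : tm 1 2 b * tm 0 1 a * tm 0 2 c = um a b c := by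
  revert a b c; decide +kernel

theorem um_mul (a b c a' b' c' : F4) :
    um a b c * um a' b' c' = um (a + a') (b + b') (c + c' + a * b') := by
  ext i j
  rw [Matrix.mul_apply, Fin.sum_univ_three]
  fin_cases i <;> fin_cases j <;> simp [um] <;> ring

/-- unitriangular matrix in `SL3` -/
def UM (h : Cfsg.Agent.UGT.L34.H) : SL3 := T 1 2 h.b * T 0 1 h.a * T 0 2 h.c

theorem UM_val (h : Cfsg.Agent.UGT.L34.H) : (UM h).1 = um h.a h.b h.c := tm_prod' _ _ _

theorem UM_mul (h h' : Cfsg.Agent.UGT.L34.H) : UM (h * h') = UM h * UM h' := by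
  apply Subtype.ext
  have h1 : (UM h * UM h').1 = (UM h).1 * (UM h').1 := rfl
  rw [h1, UM_val, UM_val, UM_val, um_mul]
  rfl

theorem V_eq (h : Cfsg.Agent.UGT.L34.H) : V h = pr (UM h) := rfl

theorem V_mul (h h' : Cfsg.Agent.UGT.L34.H) : V (h * h') = V h * V h' := by
  rw [V_eq, V_eq, V_eq, UM_mul]; rfl

theorem V_one : V 1 = 1 := by
  have h := V_mul 1 1
  rw [mul_one] at h
  exact (mul_eq_left.mp h.symm)

theorem T_swap (a b c : F4) : T 0 1 b * T 1 2 a * T 0 2 c = T 1 2 a * T 0 1 b * T 0 2 (b * a + c) := by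
  apply Subtype.ext
  change tm 0 1 b * tm 1 2 a * tm 0 2 c = tm 1 2 a * tm 0 1 b * tm 0 2 (b * a + c)
  rw [tm_prod, tm_prod']

theorem V_inj {h h' : Cfsg.Agent.UGT.L34.H} (e : V h = V h') : h = h' := by
  have key : ∀ h : Cfsg.Agent.UGT.L34.H, V h = t 0 1 h.a * t 1 2 h.b * t 0 2 (h.a * h.b + h.c) := by
    intro h
    have h1 : T 0 1 h.a * T 1 2 h.b * T 0 2 (h.a * h.b + h.c) = UM h := by
      rw [T_swap]
      have : h.a * h.b + (h.a * h.b + h.c) = h.c := by rw [← add_assoc, fadd_self, zero_add]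
      rw [this]; rfl
    rw [V_eq, ← h1]; rfl
  rw [key h, key h'] at e
  obtain ⟨h1, h2, h3⟩ := t_inj e
  refine Heis.ext h1 h2 ?_
  rw [h1, h2] at h3
  exact add_left_cancel h3

/-! ### field and graph automorphism -/

/-- field automorphism -/
noncomputable def Φ : MulAut PSL3 := lift (fld phi)

/-- graph automorphism -/
noncomputable def Γ : MulAut PSL3 := lift (cj J * itr)

theorem Φ_t (i j : Fin 3) (hij : i ≠ j) (u : F4) : Φ (t i j u) = t i j (u * u) := by
  change pr (fld phi (T i j u)) = pr (T i j (u * u))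
  rw [fld_T phi i j hij]; rfl

theorem Γ_t (i j : Fin 3) (hij : i ≠ j) (u : F4) : Γ (t i j u) = t (rv j) (rv i) u := by
  change pr (cj J (itr (T i j u))) = pr (T (rv j) (rv i) u)
  rw [itr_T i j hij, cj_J_T]

theorem aut_ext {α β : MulAut PSL3} (h : ∀ i j : Fin 3, i ≠ j → ∀ u : F4, α (t i j u) = β (t i j u)) :
    α = β := by
  have h1 : (α : PSL3 →* PSL3) = (β : PSL3 →* PSL3) := by
    apply MonoidHom.eq_of_eqOn_dense closure_t
    rintro _ ⟨i, j, hij, c, rfl⟩
    exact h i j hij c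
  apply MulEquiv.ext
  intro x
  exact congrArg (fun f : PSL3 →* PSL3 => f x) h1

theorem Φ_sq : Φ * Φ = 1 := by
  apply aut_ext
  intro i j hij u
  change Φ (Φ (t i j u)) = t i j u
  rw [Φ_t i j hij, Φ_t i j hij, fsq_sq]

theorem Γ_sq : Γ * Γ = 1 := by
  apply aut_ext
  intro i j hij u
  change Γ (Γ (t i j u)) = t i j u
  rw [Γ_t i j hij, Γ_t _ _ (rv_ne hij).symm, rv_rv, rv_rv]

theorem ΦΓ : Φ * Γ = Γ * Φ := by
  apply aut_ext
  intro i j hij u
  change Φ (Γ (t i j u)) = Γ (Φ (t i j u))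
  rw [Γ_t i j hij, Φ_t _ _ (rv_ne hij).symm, Φ_t i j hij, Γ_t i j hij]

theorem Φ_V (h : Cfsg.Agent.UGT.L34.H) : Φ (V h) = V (ph h) := by
  rw [V, map_mul, map_mul, Φ_t _ _ (by decide), Φ_t _ _ (by decide), Φ_t _ _ (by decide)]; rfl

theorem Γ_V (h : Cfsg.Agent.UGT.L34.H) : Γ (V h) = V (gr h) := by
  rw [V, map_mul, map_mul, Γ_t _ _ (by decide), Γ_t _ _ (by decide), Γ_t _ _ (by decide)]
  have e1 : rv 2 = 0 := by decide
  have e2 : rv 1 = 1 := by decide
  have e3 : rv 0 = 2 := by decide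
  rw [e1, e2, e3]
  have h1 : (pr (T 0 1 h.b * T 1 2 h.a * T 0 2 h.c) : PSL3) =
      pr (T 1 2 h.a * T 0 1 h.b * T 0 2 (h.b * h.a + h.c)) := by rw [T_swap]
  have h2 : h.b * h.a + h.c = h.c + h.a * h.b := by ring
  rw [h2] at h1
  exact h1

/-- the outer part -/
noncomputable def O (f g : Bool) : MulAut PSL3 := cond f Φ 1 * cond g Γ 1

theorem O_V (f g : Bool) (h : Cfsg.Agent.UGT.L34.H) : O f g (V h) = V (act f g h) := by
  cases f <;> cases g
  · rfl
  · change (1 * Γ : MulAut PSL3) (V h) = V (gr h)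
    rw [one_mul, Γ_V]
  · change (Φ * 1 : MulAut PSL3) (V h) = V (ph h)
    rw [mul_one, Φ_V]
  · change Φ (Γ (V h)) = V (ph (gr h))
    rw [Γ_V, Φ_V]

theorem O_mul (f g f' g' : Bool) : O f g * O f' g' = O (xor f f') (xor g g') := by
  have h1 := Φ_sq
  have h2 := Γ_sq
  have h3 := ΦΓ
  have h4 : Γ * Φ * Γ = Φ := by rw [mul_assoc, h3, ← mul_assoc, h2, one_mul]
  have h5 : Φ * Γ * Φ = Γ := by rw [mul_assoc, ← h3, ← mul_assoc, h1, one_mul]
  cases f <;> cases g <;> cases f' <;> cases g' <;> simp only [O, cond_true, cond_false, mul_one, one_mul,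
    Bool.false_xor, Bool.true_xor, Bool.not_true, Bool.not_false, h1, h2, ← h3]
  · rw [← mul_assoc, ← h3, mul_assoc, h2, mul_one]
  · rw [← mul_assoc, h1, one_mul]
  · rw [mul_assoc, h2, mul_one]
  · rw [h5]
  · rw [← mul_assoc, h5, h2]

theorem conj_comm (α : MulAut PSL3) (l : PSL3) : α * MulAut.conj l = MulAut.conj (α l) * α := by
  apply MulEquiv.ext
  intro x
  change α (l * x * l⁻¹) = α l * α x * (α l)⁻¹
  rw [map_mul, map_mul, map_inv]

/-- the embedding of `E` -/
noncomputable def iota : E →* MulAut PSL3 where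
  toFun s := MulAut.conj (V s.h) * O s.f s.g
  map_one' := by
    change MulAut.conj (V 1) * O false false = 1
    rw [V_one, map_one, one_mul]
    exact one_mul _
  map_mul' s s' := by
    change MulAut.conj (V (s.h * act s.f s.g s'.h)) * O (xor s.f s'.f) (xor s.g s'.g) =
      MulAut.conj (V s.h) * O s.f s.g * (MulAut.conj (V s'.h) * O s'.f s'.g)
    rw [V_mul, map_mul, ← O_mul, ← O_V]
    calc MulAut.conj (V s.h) * MulAut.conj (O s.f s.g (V s'.h)) * (O s.f s.g * O s'.f s'.g) =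
        MulAut.conj (V s.h) * (MulAut.conj (O s.f s.g (V s'.h)) * O s.f s.g) * O s'.f s'.g := by
          simp only [mul_assoc]
      _ = MulAut.conj (V s.h) * (O s.f s.g * MulAut.conj (V s'.h)) * O s'.f s'.g := by
          rw [← conj_comm]
      _ = _ := by simp only [mul_assoc]

theorem iota_U (h : Cfsg.Agent.UGT.L34.H) : iota ⟨h, false, false⟩ = MulAut.conj (V h) := by
  change MulAut.conj (V h) * O false false = _
  have : O false false = 1 := one_mul _
  rw [this, mul_one]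

/-- `conj` is injective -/
theorem conj_inj {l : PSL3} (h : MulAut.conj l = 1) : l = 1 := by
  apply Cfsg.Agent.StdL3.OuterFixF.center
  intro i j hij
  have h1 := congrArg (fun α : MulAut PSL3 => α (t i j 1)) h
  change l * t i j 1 * l⁻¹ = t i j 1 at h1
  rw [mul_inv_eq_iff_eq_mul] at h1
  exact h1

theorem iota_injective : Function.Injective iota := by
  rw [injective_iff_map_eq_one]
  intro s hs
  have h1 : ∀ h : Cfsg.Agent.UGT.L34.H, V (s.h * act s.f s.g h) = V (h * s.h) := by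
    intro h
    have h2 : V s.h * O s.f s.g (V h) * (V s.h)⁻¹ = V h :=
      congrArg (fun α : MulAut PSL3 => α (V h)) hs
    rw [O_V, mul_inv_eq_iff_eq_mul] at h2
    rw [V_mul, V_mul, h2]
  have h2 : ∀ h : Cfsg.Agent.UGT.L34.H, s * ⟨h, false, false⟩ = ⟨h, false, false⟩ * s := by
    intro h
    have h3 := V_inj (h1 h)
    apply E.ext
    · exact h3
    · exact Bool.xor_comm _ _
    · exact Bool.xor_comm _ _
  -- `s` commutes with `U`
  have key : ∀ s : E, s * el .o .z .z false false = el .o .z .z false false * s →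
      s * el .w .z .z false false = el .w .z .z false false * s →
      s * el .z .o .z false false = el .z .o .z false false * s →
      s * el .z .w .z false false = el .z .w .z false false * s →
      s.f = false ∧ s.g = false := forall_E (by decide +kernel)
  obtain ⟨hf, hg⟩ := key s (h2 _) (h2 _) (h2 _) (h2 _)
  have h3 : s = ⟨s.h, false, false⟩ := by
    conv_lhs => rw [show s = ⟨s.h, s.f, s.g⟩ from rfl, hf, hg]
  rw [h3, iota_U] at hs
  have h4 := conj_inj hs
  rw [← V_one] at h4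
  rw [h3, V_inj h4]
  rfl

end Cfsg.Agent.UGT.L34.Embed
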