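import Cfsg.Agent.UGT.L34.Model

/-!
# Facts on the Sylow 2-subgroup `E` of `Aut L₃(4)`
-/

set_option autoImplicit false
set_option linter.constructorNameAsVariable false
set_option linter.unusedVariables false

open Cfsg.Agent.SporadicA.FieldFour
open Cfsg.Agent.StdL3.Heis
open Subgroup

namespace Cfsg.Agent.UGT.L34

instance decH : DecidableEq H := fun u v =>
  decidable_of_iff (u.a = v.a ∧ u.b = v.b ∧ u.c = v.c)
    ⟨fun h => Heis.ext h.1 h.2.1 h.2.2, fun h => by subst h; exact ⟨rfl, rfl, rfl⟩⟩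

instance decE : DecidableEq E := fun u v =>
  decidable_of_iff (u.h = v.h ∧ u.f = v.f ∧ u.g = v.g)
    ⟨fun h => E.ext h.1 h.2.1 h.2.2, fun h => by subst h; exact ⟨rfl, rfl, rfl⟩⟩

/-- element by coordinates -/
def el (a b c : F4) (f g : Bool) : E := ⟨⟨a, b, c⟩, f, g⟩

theorem eta (s : E) : s = el s.h.a s.h.b s.h.c s.f s.g := rfl

/-- unitary polarity -/
def px : E := el 0 0 0 true true
/-- field automorphism -/
def pf : E := el 0 0 0 true false
/-- graph automorphism -/
def pg : E := el 0 0 0 false true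
/-- the central involution -/
def pb : E := el 0 0 1 false false

/-- the inner part -/
def U : Subgroup E where
  carrier := {s | s.f = false ∧ s.g = false}
  mul_mem' {s t} hs ht := by
    change xor s.f t.f = false ∧ xor s.g t.g = false
    rw [hs.1, hs.2, ht.1, ht.2]; exact ⟨rfl, rfl⟩
  one_mem' := ⟨rfl, rfl⟩
  inv_mem' {s} hs := hs

theorem mem_U {s : E} : s ∈ U ↔ s.f = false ∧ s.g = false := Iff.rfl

instance (s : E) : Decidable (s ∈ U) := decidable_of_iff (s.f = false ∧ s.g = false) mem_U.symm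

/-- sign of a label -/
def sg (b : Bool) : ℤˣ := cond b (-1) 1

theorem sg_xor (b c : Bool) : sg (xor b c) = sg b * sg c := by cases b <;> cases c <;> decide

/-- field part -/
def lf : E →* ℤˣ where
  toFun s := sg s.f
  map_one' := rfl
  map_mul' s t := sg_xor _ _

/-- graph part -/
def lg : E →* ℤˣ where
  toFun s := sg s.g
  map_one' := rfl
  map_mul' s t := sg_xor _ _

theorem sg_eq_one {b : Bool} : sg b = 1 ↔ b = false := by cases b <;> decide

theorem lf_eq_one {s : E} : lf s = 1 ↔ s.f = false := sg_eq_one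
theorem lg_eq_one {s : E} : lg s = 1 ↔ s.g = false := sg_eq_one

theorem mem_U_iff {s : E} : s ∈ U ↔ lf s = 1 ∧ lg s = 1 := by rw [lf_eq_one, lg_eq_one]; rfl

theorem unit_sq (u : ℤˣ) : u * u = 1 := by
  rcases Int.units_eq_one_or u with h | h <;> rw [h] <;> rfl

theorem sq_mem_U (s : E) : s * s ∈ U := by
  rw [mem_U_iff, map_mul, map_mul]
  exact ⟨unit_sq _, unit_sq _⟩

theorem conj_mem_U {s u : E} (hu : u ∈ U) : s * u * s⁻¹ ∈ U := by
  rw [mem_U_iff] at hu ⊢
  simp only [map_mul, map_inv, hu.1, hu.2, mul_one, mul_inv_cancel]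
  exact ⟨trivial, trivial⟩

theorem comm_mem_U (s t : E) : s * t * s⁻¹ * t⁻¹ ∈ U := by
  rw [mem_U_iff]
  simp only [map_mul, map_inv]
  constructor
  · rw [mul_comm (lf s), mul_inv_cancel_right, mul_inv_cancel]
  · rw [mul_comm (lg s), mul_inv_cancel_right, mul_inv_cancel]

/-- elements of `E` as tuples: induction principle for `decide` -/
theorem forall_E {p : E → Prop} (h : ∀ (a b c : F4) (f g : Bool), p (el a b c f g)) (s : E) : p s :=
  h s.h.a s.h.b s.h.c s.f s.g

theorem forall_U {p : E → Prop} (h : ∀ (a b c : F4), p (el a b c false false)) {s : E} (hs : s ∈ U) : p s := by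
  have h1 : s = el s.h.a s.h.b s.h.c false false := by
    conv_lhs => rw [eta s, hs.1, hs.2]
  rw [h1]; exact h _ _ _

theorem mk_mem_U (a b c : F4) : el a b c false false ∈ U := ⟨rfl, rfl⟩

theorem pb_mem : pb ∈ U := ⟨rfl, rfl⟩

theorem pb_ne : pb ≠ 1 := by decide

theorem pb_sq : pb * pb = 1 := by decide

theorem px_sq : px * px = 1 := by decide

theorem pb_central : ∀ s : E, pb * s = s * pb := forall_E (by decide +kernel)

/-- (E2) -/
theorem cent_top (z : E) (hU : ∀ u ∈ U, z * u = u * z) (hx : z * px = px * z) : z = 1 ∨ z = pb := by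
  have h1 := hU _ (mk_mem_U .o .z .z)
  have h2 := hU _ (mk_mem_U .w .z .z)
  have h3 := hU _ (mk_mem_U .z .o .z)
  have h4 := hU _ (mk_mem_U .z .w .z)
  revert z
  exact fun z _ hx h1 h2 h3 h4 => forall_E (p := fun z => z * px = px * z →
    z * el .o .z .z false false = el .o .z .z false false * z →
    z * el .w .z .z false false = el .w .z .z false false * z →
    z * el .z .o .z false false = el .z .o .z false false * z →
    z * el .z .w .z false false = el .z .w .z false false * z →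
    z = 1 ∨ z = pb) (by decide +kernel) z hx h1 h2 h3 h4

/-- two generators of the quaternion group `C_U(px)` -/
def q1 : E := el 1 1 .w false false
/-- two generators of the quaternion group `C_U(px)` -/
def q2 : E := el .w .v .w false false

theorem q1_mem : q1 ∈ U := ⟨rfl, rfl⟩
theorem q2_mem : q2 ∈ U := ⟨rfl, rfl⟩
theorem q1_px : q1 * px = px * q1 := by decide
theorem q2_px : q2 * px = px * q2 := by decide
theorem q1_sq : q1 * q1 = pb := by decide
theorem q2_sq : q2 * q2 = pb := by decide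
theorem q_comm : q1 * q2 * q1⁻¹ * q2⁻¹ = pb := by decide

/-- (E3) -/
theorem cent_x (z : E) (hx : z * px = px * z) (h1 : z * q1 = q1 * z) (h2 : z * q2 = q2 * z) :
    z = 1 ∨ z = pb ∨ z = px ∨ z = px * pb := by
  revert z
  exact forall_E (by decide +kernel)

/-- (E5) -/
theorem inv_cent_x (z : E) (hz : z ∈ U) (hx : z * px = px * z) (h2 : z * z = 1) : z = 1 ∨ z = pb := by
  revert hx h2
  exact forall_U (p := fun z => z * px = px * z → z * z = 1 → z = 1 ∨ z = pb) (by decide +kernel) hz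

/-- involutions of label `x` are conjugate -/
theorem conj_x (y : E) (h1 : y.f = true) (h2 : y.g = true) (hy : y * y = 1) :
    ∃ u ∈ U, u * px * u⁻¹ = y := by
  have key : ∀ a b c : F4, el a b c true true * el a b c true true = 1 →
      ∃ p q r : F4, el p q r false false * px * (el p q r false false)⁻¹ = el a b c true true := by
    decide +kernel
  have e : y = el y.h.a y.h.b y.h.c true true := by conv_lhs => rw [eta y, h1, h2]
  rw [e] at hy ⊢
  obtain ⟨p, q, r, h⟩ := key _ _ _ hy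
  exact ⟨_, mk_mem_U p q r, h⟩

theorem conj_f (y : E) (h1 : y.f = true) (h2 : y.g = false) (hy : y * y = 1) :
    ∃ u ∈ U, u * pf * u⁻¹ = y := by
  have key : ∀ a b c : F4, el a b c true false * el a b c true false = 1 →
      ∃ p q r : F4, el p q r false false * pf * (el p q r false false)⁻¹ = el a b c true false := by
    decide +kernel
  have e : y = el y.h.a y.h.b y.h.c true false := by conv_lhs => rw [eta y, h1, h2]
  rw [e] at hy ⊢
  obtain ⟨p, q, r, h⟩ := key _ _ _ hy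
  exact ⟨_, mk_mem_U p q r, h⟩

theorem conj_g (y : E) (h1 : y.f = false) (h2 : y.g = true) (hy : y * y = 1) :
    ∃ u ∈ U, u * pg * u⁻¹ = y := by
  have key : ∀ a b c : F4, el a b c false true * el a b c false true = 1 →
      ∃ p q r : F4, el p q r false false * pg * (el p q r false false)⁻¹ = el a b c false true := by
    decide +kernel
  have e : y = el y.h.a y.h.b y.h.c false true := by conv_lhs => rw [eta y, h1, h2]
  rw [e] at hy ⊢
  obtain ⟨p, q, r, h⟩ := key _ _ _ hy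
  exact ⟨_, mk_mem_U p q r, h⟩

/-- the centre of `U` -/
def ZU : Subgroup E where
  carrier := {s | (s.f = false ∧ s.g = false) ∧ s.h.a = 0 ∧ s.h.b = 0}
  mul_mem' {s t} hs ht := by
    refine ⟨U.mul_mem hs.1 ht.1, ?_, ?_⟩
    · change s.h.a + (act s.f s.g t.h).a = 0
      rw [hs.1.1, hs.1.2, hs.2.1]; change 0 + t.h.a = 0; rw [ht.2.1, add_zero]
    · change s.h.b + (act s.f s.g t.h).b = 0
      rw [hs.1.1, hs.1.2, hs.2.2]; change 0 + t.h.b = 0; rw [ht.2.2, add_zero]
  one_mem' := ⟨⟨rfl, rfl⟩, rfl, rfl⟩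
  inv_mem' {s} hs := by
    refine ⟨hs.1, ?_, ?_⟩
    · change (act s.f s.g s.h⁻¹).a = 0
      rw [hs.1.1, hs.1.2]; change -s.h.a = 0; rw [hs.2.1, neg_zero]
    · change (act s.f s.g s.h⁻¹).b = 0
      rw [hs.1.1, hs.1.2]; change -s.h.b = 0; rw [hs.2.2, neg_zero]

/-- the elementary abelian subgroup `a = 0` -/
def A1 : Subgroup E where
  carrier := {s | (s.f = false ∧ s.g = false) ∧ s.h.a = 0}
  mul_mem' {s t} hs ht := by
    refine ⟨U.mul_mem hs.1 ht.1, ?_⟩
    · change s.h.a + (act s.f s.g t.h).a = 0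
      rw [hs.1.1, hs.1.2, hs.2]; change 0 + t.h.a = 0; rw [ht.2, add_zero]
  one_mem' := ⟨⟨rfl, rfl⟩, rfl⟩
  inv_mem' {s} hs := by
    refine ⟨hs.1, ?_⟩
    · change (act s.f s.g s.h⁻¹).a = 0
      rw [hs.1.1, hs.1.2]; change -s.h.a = 0; rw [hs.2, neg_zero]

/-- the elementary abelian subgroup `b = 0` -/
def A2 : Subgroup E where
  carrier := {s | (s.f = false ∧ s.g = false) ∧ s.h.b = 0}
  mul_mem' {s t} hs ht := by
    refine ⟨U.mul_mem hs.1 ht.1, ?_⟩
    · change s.h.b + (act s.f s.g t.h).b = 0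
      rw [hs.1.1, hs.1.2, hs.2]; change 0 + t.h.b = 0; rw [ht.2, add_zero]
  one_mem' := ⟨⟨rfl, rfl⟩, rfl⟩
  inv_mem' {s} hs := by
    refine ⟨hs.1, ?_⟩
    · change (act s.f s.g s.h⁻¹).b = 0
      rw [hs.1.1, hs.1.2]; change -s.h.b = 0; rw [hs.2, neg_zero]

theorem mem_A1 {s : E} : s ∈ A1 ↔ s ∈ U ∧ s.h.a = 0 := Iff.rfl
theorem mem_A2 {s : E} : s ∈ A2 ↔ s ∈ U ∧ s.h.b = 0 := Iff.rfl
theorem mem_ZU {s : E} : s ∈ ZU ↔ s ∈ U ∧ s.h.a = 0 ∧ s.h.b = 0 := Iff.rfl

theorem A1_inf_A2 : A1 ⊓ A2 = ZU := by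
  ext s
  rw [mem_inf, mem_A1, mem_A2, mem_ZU]
  tauto

theorem forall_A1 {p : E → Prop} (h : ∀ (b c : F4), p (el 0 b c false false)) {s : E} (hs : s ∈ A1) : p s := by
  have h1 : s = el 0 s.h.b s.h.c false false := by
    conv_lhs => rw [eta s, hs.1.1, hs.1.2, hs.2]
  rw [h1]; exact h _ _

theorem forall_A2 {p : E → Prop} (h : ∀ (a c : F4), p (el a 0 c false false)) {s : E} (hs : s ∈ A2) : p s := by
  have h1 : s = el s.h.a 0 s.h.c false false := by
    conv_lhs => rw [eta s, hs.1.1, hs.1.2, hs.2]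
  rw [h1]; exact h _ _

theorem forall_ZU {p : E → Prop} (h : ∀ (c : F4), p (el 0 0 c false false)) {s : E} (hs : s ∈ ZU) : p s := by
  have h1 : s = el 0 0 s.h.c false false := by
    conv_lhs => rw [eta s, hs.1.1, hs.1.2, hs.2.1, hs.2.2]
  rw [h1]; exact h _

/-- elementary abelian -/
def Elem {X : Type*} [Group X] (V : Subgroup X) : Prop :=
  (∀ u ∈ V, u * u = 1) ∧ ∀ u ∈ V, ∀ v ∈ V, u * v = v * u

theorem elem_A1 : Elem A1 :=
  ⟨fun _ hu => forall_A1 (p := fun u => u * u = 1) (by decide +kernel) hu, fun u hu v hv =>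
    forall_A1 (p := fun u => u * v = v * u) (fun b c => forall_A1
      (p := fun v => el 0 b c false false * v = v * el 0 b c false false)
      (by revert b c; decide +kernel) hv) hu⟩

theorem elem_A2 : Elem A2 :=
  ⟨fun _ hu => forall_A2 (p := fun u => u * u = 1) (by decide +kernel) hu, fun u hu v hv =>
    forall_A2 (p := fun u => u * v = v * u) (fun b c => forall_A2
      (p := fun v => el b 0 c false false * v = v * el b 0 c false false)
      (by revert b c; decide +kernel) hv) hu⟩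

theorem card_A1 : Nat.card A1 = 16 := by
  have e : A1 ≃ F4 × F4 :=
    { toFun := fun s => (s.1.h.b, s.1.h.c)
      invFun := fun t => ⟨el 0 t.1 t.2 false false, ⟨⟨rfl, rfl⟩, rfl⟩⟩
      left_inv := fun s => Subtype.ext (by
        change el 0 s.1.h.b s.1.h.c false false = s.1
        conv_rhs => rw [eta s.1, s.2.1.1, s.2.1.2, s.2.2])
      right_inv := fun _ => rfl }
  rw [Nat.card_congr e, Nat.card_eq_fintype_card]
  decide

theorem card_A2 : Nat.card A2 = 16 := by
  have e : A2 ≃ F4 × F4 :=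
    { toFun := fun s => (s.1.h.a, s.1.h.c)
      invFun := fun t => ⟨el t.1 0 t.2 false false, ⟨⟨rfl, rfl⟩, rfl⟩⟩
      left_inv := fun s => Subtype.ext (by
        change el s.1.h.a 0 s.1.h.c false false = s.1
        conv_rhs => rw [eta s.1, s.2.1.1, s.2.1.2, s.2.2])
      right_inv := fun _ => rfl }
  rw [Nat.card_congr e, Nat.card_eq_fintype_card]
  decide

theorem card_ZU : Nat.card ZU = 4 := by
  have e : ZU ≃ F4 :=
    { toFun := fun s => s.1.h.c
      invFun := fun t => ⟨el 0 0 t false false, ⟨⟨rfl, rfl⟩, rfl, rfl⟩⟩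
      left_inv := fun s => Subtype.ext (by
        change el 0 0 s.1.h.c false false = s.1
        conv_rhs => rw [eta s.1, s.2.1.1, s.2.1.2, s.2.2.1, s.2.2.2])
      right_inv := fun _ => rfl }
  rw [Nat.card_congr e, Nat.card_eq_fintype_card]
  decide

/-- (E13) -/
theorem inv_U {u : E} (hu : u ∈ U) (h2 : u * u = 1) : u ∈ A1 ∨ u ∈ A2 := by
  have key : u.h.a * u.h.b = 0 := by
    revert h2
    exact forall_U (p := fun u => u * u = 1 → u.h.a * u.h.b = 0) (by decide +kernel) hu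
  rcases mul_eq_zero.mp key with h | h
  · exact Or.inl ⟨hu, h⟩
  · exact Or.inr ⟨hu, h⟩

theorem comm_U {u v : E} (hu : u ∈ U) (hv : v ∈ U) (h : u * v = v * u) : u.h.a * v.h.b = v.h.a * u.h.b := by
  have e1 : u = ⟨u.h, false, false⟩ := by
    conv_lhs => rw [show u = ⟨u.h, u.f, u.g⟩ from rfl, hu.1, hu.2]
  have e2 : v = ⟨v.h, false, false⟩ := by
    conv_lhs => rw [show v = ⟨v.h, v.f, v.g⟩ from rfl, hv.1, hv.2]
  rw [e1, e2] at h
  have h1 : u.h * v.h = v.h * u.h := congrArg E.h h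
  exact (commute_iff _ _).mp h1

instance finE : Finite E := by
  have : Function.Injective (fun s : E => ((s.h.a, s.h.b, s.h.c), (s.f, s.g))) := by
    intro s t h
    simp only [Prod.mk.injEq] at h
    exact E.ext (Heis.ext h.1.1 h.1.2.1 h.1.2.2) h.2.1 h.2.2
  exact Finite.of_injective _ this

/-- (E8) -/
theorem conj_px : ∃ u ∈ U, u * px * u⁻¹ = px * pb := ⟨el .o .o .z false false, mk_mem_U _ _ _, by decide⟩

/-- (E9) -/
theorem exists_comm_A : ∃ u ∈ A1, ∃ v ∈ A2, u * v * u⁻¹ * v⁻¹ = pb :=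
  ⟨el .z .o .z false false, ⟨⟨rfl, rfl⟩, rfl⟩, el .o .z .z false false, ⟨⟨rfl, rfl⟩, rfl⟩, by decide⟩

/-- (E12) -/
theorem cent_g (y z : E) (h1 : y.f = false) (hz : z ∈ ZU) : y * z = z * y := by
  have e : y = el y.h.a y.h.b y.h.c false y.g := by conv_lhs => rw [eta y, h1]
  rw [e]
  have key : ∀ (a b c : F4) (g : Bool) (d : F4), el a b c false g * el 0 0 d false false =
      el 0 0 d false false * el a b c false g := by decide +kernel
  exact forall_ZU (p := fun z => el y.h.a y.h.b y.h.c false y.g * z =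
    z * el y.h.a y.h.b y.h.c false y.g) (fun d => key _ _ _ _ d) hz

/-- the centralizer of the graph automorphism -/
theorem cent_pg (s : E) (h : s * pg = pg * s) : s.h.a = 0 ∧ s.h.b = 0 := by
  revert s
  exact forall_E (by decide +kernel)

theorem cent_pf (u : E) (hu : u ∈ U) (h : u * pf = pf * u) (h2 : u * u = 1) :
    (u.h.a = 0 ∧ u.h.b = 0 ∧ (u.h.c = 0 ∨ u.h.c = 1)) ∨ (u.h.a = 1 ∧ u.h.b = 0 ∧ (u.h.c = 0 ∨ u.h.c = 1)) ∨
    (u.h.a = 0 ∧ u.h.b = 1 ∧ (u.h.c = 0 ∨ u.h.c = 1)) := by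
  revert h h2
  exact forall_U (p := fun u => u * pf = pf * u → u * u = 1 →
    (u.h.a = 0 ∧ u.h.b = 0 ∧ (u.h.c = 0 ∨ u.h.c = 1)) ∨ (u.h.a = 1 ∧ u.h.b = 0 ∧ (u.h.c = 0 ∨ u.h.c = 1)) ∨
    (u.h.a = 0 ∧ u.h.b = 1 ∧ (u.h.c = 0 ∨ u.h.c = 1))) (by decide +kernel) hu

/-- (E11) for the standard graph automorphism -/
theorem comm_of_cent_pg (s t : E) (hs : s * pg = pg * s) (ht : t * pg = pg * t) (hs2 : s * s ≠ 1)
    (ht2 : t * t ≠ 1) : s * t = t * s := by
  have e1 : s = el 0 0 s.h.c s.f s.g := by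
    conv_lhs => rw [eta s, (cent_pg s hs).1, (cent_pg s hs).2]
  have e2 : t = el 0 0 t.h.c t.f t.g := by
    conv_lhs => rw [eta t, (cent_pg t ht).1, (cent_pg t ht).2]
  have key : ∀ (c : F4) (f g : Bool) (c' : F4) (f' g' : Bool), el 0 0 c f g * el 0 0 c f g ≠ 1 →
      el 0 0 c' f' g' * el 0 0 c' f' g' ≠ 1 →
      el 0 0 c f g * el 0 0 c' f' g' = el 0 0 c' f' g' * el 0 0 c f g := by decide +kernel
  rw [e1] at hs2 ⊢
  rw [e2] at ht2 ⊢
  exact key _ _ _ _ _ _ hs2 ht2

/-- (E11) -/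
theorem comm_of_cent_g {y : E} (h1 : y.f = false) (h2 : y.g = true) (hy : y * y = 1) {s t : E}
    (hs : s * y = y * s) (ht : t * y = y * t) (hs2 : s * s ≠ 1) (ht2 : t * t ≠ 1) : s * t = t * s := by
  obtain ⟨u, -, rfl⟩ := conj_g y h1 h2 hy
  have hc : ∀ s : E, s * (u * pg * u⁻¹) = (u * pg * u⁻¹) * s →
      (u⁻¹ * s * u) * pg = pg * (u⁻¹ * s * u) := by
    intro s h
    calc (u⁻¹ * s * u) * pg = u⁻¹ * (s * (u * pg * u⁻¹)) * u := by group
      _ = u⁻¹ * ((u * pg * u⁻¹) * s) * u := by rw [h]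
      _ = _ := by group
  have hn : ∀ s : E, s * s ≠ 1 → (u⁻¹ * s * u) * (u⁻¹ * s * u) ≠ 1 := by
    intro s h1 h2
    apply h1
    calc s * s = u * ((u⁻¹ * s * u) * (u⁻¹ * s * u)) * u⁻¹ := by group
      _ = 1 := by rw [h2]; group
  have h := comm_of_cent_pg _ _ (hc s hs) (hc t ht) (hn s hs2) (hn t ht2)
  calc s * t = u * ((u⁻¹ * s * u) * (u⁻¹ * t * u)) * u⁻¹ := by group
    _ = u * ((u⁻¹ * t * u) * (u⁻¹ * s * u)) * u⁻¹ := by rw [h]
    _ = _ := by group

/-- index at most two -/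
theorem card_le_two_mul {X : Type*} [Group X] [Finite X] (V : Subgroup X) (χ : X →* ℤˣ) :
    Nat.card V ≤ 2 * Nat.card (V ⊓ χ.ker : Subgroup X) := by
  have h1 := (Subgroup.card_eq_card_quotient_mul_card_subgroup (χ.comp V.subtype).ker)
  have h2 : Nat.card (V ⧸ (χ.comp V.subtype).ker) ≤ 2 := by
    have h3 := Nat.card_le_card_of_injective _ (QuotientGroup.kerLift_injective (χ.comp V.subtype))
    have h4 : Nat.card ℤˣ = 2 := by
      rw [Nat.card_eq_fintype_card, Fintype.card_units_int]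
    rwa [h4] at h3
  have h5 : Nat.card (χ.comp V.subtype).ker = Nat.card (V ⊓ χ.ker : Subgroup X) := by
    have e : (V ⊓ χ.ker : Subgroup X) = ((χ.comp V.subtype).ker).map V.subtype := by
      ext x
      rw [mem_inf, mem_map]
      constructor
      · rintro ⟨h1, h2⟩
        exact ⟨⟨x, h1⟩, h2, rfl⟩
      · rintro ⟨⟨y, hy⟩, h1, rfl⟩
        exact ⟨hy, h1⟩
    rw [e, card_map_of_injective V.subtype_injective]
  rw [h1, h5]
  exact Nat.mul_le_mul_right _ h2

theorem elem_mono {X : Type*} [Group X] {V W : Subgroup X} (h : V ≤ W) (hW : Elem W) : Elem V :=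
  ⟨fun u hu => hW.1 u (h hu), fun u hu v hv => hW.2 u (h hu) v (h hv)⟩

theorem elem_map {X Y : Type*} [Group X] [Group Y] {V : Subgroup X} (hV : Elem V) (ψ : X →* Y) :
    Elem (V.map ψ) := by
  constructor
  · rintro _ ⟨u, hu, rfl⟩
    rw [← map_mul, hV.1 u hu, map_one]
  · rintro _ ⟨u, hu, rfl⟩ _ ⟨v, hv, rfl⟩
    rw [← map_mul, hV.2 u hu v hv, map_mul]

/-- (E4) outside `U` -/
theorem card_lt_of_not_le {V : Subgroup E} (hV : Elem V) (hne : ¬ V ≤ U) : Nat.card V < 16 := by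
  -- an element of label `x`
  have hx : ∀ V : Subgroup E, Elem V → px ∈ V → Nat.card V ≤ 8 := by
    intro V hV hx
    have h1 := card_le_two_mul V lf
    have h2 := card_le_two_mul (V ⊓ lf.ker) lg
    have h3 : Nat.card ((V ⊓ lf.ker) ⊓ lg.ker : Subgroup E) ≤ 2 := by
      have hf : ∀ s : ((V ⊓ lf.ker) ⊓ lg.ker : Subgroup E), s.1 = 1 ∨ s.1 = pb := fun s =>
        inv_cent_x s.1 (mem_U_iff.mpr ⟨s.2.1.2, s.2.2⟩) (hV.2 _ s.2.1.1 _ hx) (hV.1 _ s.2.1.1)
      classical
      have hinj : Function.Injective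
          (fun s : ((V ⊓ lf.ker) ⊓ lg.ker : Subgroup E) => decide (s.1 = 1)) := by
        intro s t h
        have h' : decide (s.1 = 1) = decide (t.1 = 1) := h
        rw [decide_eq_decide] at h'
        apply Subtype.ext
        rcases hf s with h1 | h1
        · rw [h1, h'.mp h1]
        · rcases hf t with h2 | h2
          · rw [h'.mpr h2, h2]
          · rw [h1, h2]
      have h4 := Nat.card_le_card_of_injective _ hinj
      have h5 : Nat.card Bool = 2 := by rw [Nat.card_eq_fintype_card]; rfl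
      rwa [h5] at h4
    omega
  -- conjugation
  have hcj : ∀ (V : Subgroup E) (u : E), Elem V → Elem (V.map (MulAut.conj u).toMonoidHom) ∧
      Nat.card (V.map (MulAut.conj u).toMonoidHom) = Nat.card V := by
    intro V u hV
    exact ⟨elem_map hV _, card_map_of_injective (MulAut.conj u).injective⟩
  by_cases hlx : ∃ y ∈ V, y.f = true ∧ y.g = true
  · obtain ⟨y, hyV, h1, h2⟩ := hlx
    obtain ⟨u, -, hu⟩ := conj_x y h1 h2 (hV.1 y hyV)
    have h3 := hcj V u⁻¹ hV
    have h4 := hx _ h3.1 ⟨y, hyV, by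
      change u⁻¹ * y * u⁻¹⁻¹ = px
      rw [← hu]; group⟩
    omega
  -- the labels of `V`
  have hker : ∀ V : Subgroup E, (¬ ∃ y ∈ V, y.f = true ∧ y.g = true) →
      Nat.card V ≤ 2 * Nat.card (V ⊓ U : Subgroup E) := by
    intro V hV
    have h1 := card_le_two_mul V (lf * lg)
    refine h1.trans (Nat.mul_le_mul_left _ ?_)
    apply Subgroup.card_le_of_le
    rintro s ⟨h2, h3⟩
    refine ⟨h2, ?_⟩
    have h4 : sg s.f * sg s.g = 1 := h3
    have h5 : ¬ (s.f = true ∧ s.g = true) := fun h => hV ⟨s, h2, h⟩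
    change s.f = false ∧ s.g = false
    revert h4 h5
    cases s.f <;> cases s.g <;> decide
  have h16 := hker V hlx
  obtain ⟨y, hyV, hyU⟩ := SetLike.not_le_iff_exists.mp hne
  have hcjU : ∀ u : E, Nat.card (V.map (MulAut.conj u).toMonoidHom ⊓ U : Subgroup E) =
      Nat.card (V ⊓ U : Subgroup E) := by
    intro u
    have e : (V.map (MulAut.conj u).toMonoidHom ⊓ U : Subgroup E) =
        (V ⊓ U).map (MulAut.conj u).toMonoidHom := by
      ext s
      constructor
      · rintro ⟨⟨v, hv, rfl⟩, h⟩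
        refine ⟨v, ⟨hv, ?_⟩, rfl⟩
        have := conj_mem_U (s := u⁻¹) h
        have e2 : u⁻¹ * (u * v * u⁻¹) * u⁻¹⁻¹ = v := by group
        change u⁻¹ * (u * v * u⁻¹) * u⁻¹⁻¹ ∈ U at this
        rw [e2] at this
        exact this
      · rintro ⟨v, ⟨hv, hvU⟩, rfl⟩
        exact ⟨⟨v, hv, rfl⟩, conj_mem_U hvU⟩
    rw [e, card_map_of_injective (MulAut.conj u).injective]
  -- `|V ∩ U| ≤ 6`
  have hle : Nat.card (V ⊓ U : Subgroup E) ≤ 6 := by
    rcases hyf : y.f with _ | _
    · rcases hyg : y.g with _ | _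
      · exact absurd (mem_U.mpr ⟨hyf, hyg⟩) hyU
      · obtain ⟨u, -, hu⟩ := conj_g y hyf hyg (hV.1 y hyV)
        rw [← hcjU u⁻¹]
        have h3 := (hcj V u⁻¹ hV).1
        have h4 : pg ∈ V.map (MulAut.conj u⁻¹).toMonoidHom := ⟨y, hyV, by
          change u⁻¹ * y * u⁻¹⁻¹ = pg
          rw [← hu]; group⟩
        have h5 : (V.map (MulAut.conj u⁻¹).toMonoidHom ⊓ U : Subgroup E) ≤ ZU := by
          rintro s ⟨hs, hsU⟩
          exact ⟨hsU, cent_pg s (h3.2 _ hs _ h4)⟩
        have h6 := Subgroup.card_le_of_le h5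
        rw [card_ZU] at h6
        omega
    · rcases hyg : y.g with _ | _
      · obtain ⟨u, -, hu⟩ := conj_f y hyf hyg (hV.1 y hyV)
        rw [← hcjU u⁻¹]
        have h3 := (hcj V u⁻¹ hV).1
        have h4 : pf ∈ V.map (MulAut.conj u⁻¹).toMonoidHom := ⟨y, hyV, by
          change u⁻¹ * y * u⁻¹⁻¹ = pf
          rw [← hu]; group⟩
        have hinj : Function.Injective
            (fun s : (V.map (MulAut.conj u⁻¹).toMonoidHom ⊓ U : Subgroup E) =>
              ((if s.1.h.a = 1 then (0 : Fin 3) else if s.1.h.b = 1 then 1 else 2), decide (s.1.h.c = 0))) := by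
          intro s t h
          have e1 := cent_pf s.1 s.2.2 (h3.2 _ s.2.1 _ h4) (h3.1 _ s.2.1)
          have e2 := cent_pf t.1 t.2.2 (h3.2 _ t.2.1 _ h4) (h3.1 _ t.2.1)
          simp only [Prod.mk.injEq, decide_eq_decide] at h
          obtain ⟨h1, h2⟩ := h
          have hne : (0 : F4) ≠ 1 := zero_ne_one
          apply Subtype.ext
          refine E.ext (Heis.ext ?_ ?_ ?_) (s.2.2.1.trans t.2.2.1.symm) (s.2.2.2.trans t.2.2.2.symm)
          · rcases e1 with ⟨a1, b1, c1⟩ | ⟨a1, b1, c1⟩ | ⟨a1, b1, c1⟩ <;>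
              rcases e2 with ⟨a2, b2, c2⟩ | ⟨a2, b2, c2⟩ | ⟨a2, b2, c2⟩ <;>
              simp [a1, b1, a2, b2, hne] at h1 ⊢
          · rcases e1 with ⟨a1, b1, c1⟩ | ⟨a1, b1, c1⟩ | ⟨a1, b1, c1⟩ <;>
              rcases e2 with ⟨a2, b2, c2⟩ | ⟨a2, b2, c2⟩ | ⟨a2, b2, c2⟩ <;>
              simp [a1, b1, a2, b2, hne] at h1 ⊢
          · have c1 : s.1.h.c = 0 ∨ s.1.h.c = 1 := by tauto
            have c2 : t.1.h.c = 0 ∨ t.1.h.c = 1 := by tauto
            rcases c1 with c1 | c1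
            · rw [c1, h2.mp c1]
            · rcases c2 with c2 | c2
              · rw [h2.mpr c2, c2]
              · rw [c1, c2]
        have h5 := Nat.card_le_card_of_injective _ hinj
        have h6 : Nat.card (Fin 3 × Bool) = 6 := by rw [Nat.card_eq_fintype_card]; rfl
        rwa [h6] at h5
      · exact absurd ⟨y, hyV, hyf, hyg⟩ hlx
  omega

/-- (E4) -/
theorem elem_big {V : Subgroup E} (hV : Elem V) (h16 : 16 ≤ Nat.card V) : V = A1 ∨ V = A2 := by
  have hU : V ≤ U := by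
    by_contra h
    have := card_lt_of_not_le hV h
    omega
  by_cases ha : ∀ v ∈ V, v.h.a = 0
  · left
    have h1 : V ≤ A1 := fun v hv => ⟨hU hv, ha v hv⟩
    exact Subgroup.eq_of_le_of_card_ge h1 (by rw [card_A1]; exact h16)
  · right
    push Not at ha
    obtain ⟨v, hv, hva⟩ := ha
    have hvb : v.h.b = 0 := by
      rcases inv_U (hU hv) (hV.1 v hv) with h | h
      · exact absurd h.2 hva
      · exact h.2
    have h1 : V ≤ A2 := by
      intro w hw
      refine ⟨hU hw, ?_⟩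
      have h2 := comm_U (hU hv) (hU hw) (hV.2 v hv w hw)
      rw [hvb, mul_zero] at h2
      exact (mul_eq_zero.mp h2).resolve_left hva
    exact Subgroup.eq_of_le_of_card_ge h1 (by rw [card_A2]; exact h16)

theorem px_not_mem : px ∉ U := by rw [mem_U]; rintro ⟨h, -⟩; exact absurd h (by decide)

/-- an elementary abelian subgroup commuting with `px` has order at most 8 -/
theorem card_le_eight {V : Subgroup E} (hV : Elem V) (h : ∀ v ∈ V, v * px = px * v) : Nat.card V ≤ 8 := by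
  obtain ⟨n, hn⟩ : ∃ n, Nat.card V = 2 ^ n := by
    have h2 : IsPGroup 2 V := by
      intro v
      exact ⟨1, Subtype.ext (by
        change (v.1) ^ (2 ^ 1) = 1
        rw [pow_one, pow_two, hV.1 _ v.2])⟩
    have : Fact (Nat.Prime 2) := ⟨Nat.prime_two⟩
    exact IsPGroup.iff_card.mp h2
  by_contra hlt
  have h16 : 16 ≤ Nat.card V := by
    rw [hn] at hlt ⊢
    have : 3 < n := by
      by_contra h3
      exact hlt ((Nat.pow_le_pow_right (by norm_num) (by omega : n ≤ 3)).trans (by norm_num))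
    calc 16 = 2 ^ 4 := by norm_num
      _ ≤ 2 ^ n := Nat.pow_le_pow_right (by norm_num) (by omega)
  rcases elem_big hV h16 with rfl | rfl
  · exact absurd (h (el 0 1 0 false false) ⟨⟨rfl, rfl⟩, rfl⟩) (by decide)
  · exact absurd (h (el 1 0 0 false false) ⟨⟨rfl, rfl⟩, rfl⟩) (by decide)

end Cfsg.Agent.UGT.L34
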