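import Cfsg.Agent.UGT.L34.Supply
import Cfsg.Agent.UGT.LTF.Link

/-!
# From a triple of type `L₃(4)` to the situation `Ctx`, part 2

* `T1.exists_ctx`: the situation `Ctx` for `x` and `x a`.
* `T1.false_of_hom`, `T1.false_of_hom'`: neither `x` nor `x a` is in the kernel of all `G → {1, -1}`.
-/

set_option autoImplicit false
set_option linter.unusedVariables false

open Cfsg Subgroup
open Cfsg.Agent.SignalizersComponents Cfsg.Agent.Lib
open Cfsg.Agent.SignalizersComponents.IntrinsicBasic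
open Cfsg.Agent.SignalizersComponents.IntrinsicIntr
open Cfsg.Agent.SignalizersComponents.PLayerAut
open Cfsg.Agent.Intrinsic.Basic Cfsg.Agent.Intrinsic.Cen Cfsg.Agent.Intrinsic.Diag
open Cfsg.Agent.McLLyComp.Act
open Cfsg.Agent.UGT.Triple Cfsg.Agent.UGT.TriBase
open Cfsg.Agent.UGT.Iface (Bar IsL34)
open Cfsg.Agent.UGT.LTF.Defs (KF34 FT OddC)
open Cfsg.Agent.ONType.Psl (PSL3)
open Cfsg.Agent.UGT.L34 hiding act

namespace Cfsg.Agent.UGT.LSup

universe u

variable {G : Type u} [Group G] [Finite G] {x a : G} {L S : Subgroup G}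

theorem card_dvd (h34 : IsL34 (Bar L)) : 2 ^ 6 ∣ Nat.card ↥L := by
  obtain ⟨A⟩ := exists_dat h34
  have h1 : Nat.card (Bar L) = 20160 := A.card
  have h2 : Nat.card (Bar L) ∣ Nat.card ↥L := Subgroup.card_quotient_dvd_card _
  rw [h1] at h2
  exact (by norm_num : 2 ^ 6 ∣ 20160).trans h2

theorem eq_one_of_core {K : Subgroup G} {p : G} (hp : p ∈ core K) (hS : IsPGroup 2 ↥S) (hpS : p ∈ S) :
    p = 1 := by
  obtain ⟨k, hk⟩ := hS ⟨p, hpS⟩
  have h1 : p ^ (2 ^ k) = 1 := congrArg Subtype.val hk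
  exact eq_one_of_mem_core hp h1

/-- **The situation `Ctx`.** -/
theorem T1.exists_ctx (kf : KF34.{u}) (h : T1 x a L S) :
    ∃ (ψ : ↥S →* E) (b : ↥S), Ctx S ψ (L.subgroupOf S) ⟨x, h.xS⟩ ⟨a, h.aS⟩ b ∧
      (∀ s : ↥S, ψ s = 1 ↔ Fixes (s : G) L) ∧
      (∀ s : ↥S, ψ s ∈ U ↔ ∃ l : Bar L, act L ⟨s, h.SN s.2⟩ = MulAut.conj l) := by
  have F := ft_of_triple kf h.T h.l34
  let ρ : ↥S →* MulAut (Bar L) := (act L).comp (inclusion h.SN)
  have hT : IsPGroup 2 ρ.range := h.S2.of_surjective ρ.rangeRestrict ρ.rangeRestrict_surjective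
  obtain ⟨ψ0, hi, hU, hx⟩ := exists_model h.l34 ρ.range hT (act L ⟨x, h.T.x_mem⟩) ⟨⟨x, h.xS⟩, rfl⟩
    F.xx F.comm
  let ψ : ↥S →* E := ψ0.comp ρ.rangeRestrict
  have h1 : ∀ s : ↥S, ψ s = 1 ↔ Fixes (s : G) L := by
    intro s
    rw [← act_eq_one_iff (h.SN s.2)]
    constructor
    · intro hs
      have := hi (hs.trans (map_one ψ0).symm)
      exact congrArg Subtype.val this
    · intro hs
      have : ρ.rangeRestrict s = 1 := Subtype.ext hs
      change ψ0 (ρ.rangeRestrict s) = 1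
      rw [this, map_one]
  have h2 : ∀ s : ↥S, ψ s ∈ U ↔ ∃ l : Bar L, act L ⟨s, h.SN s.2⟩ = MulAut.conj l :=
    fun s => hU (ρ.rangeRestrict s)
  have hinj : ∀ p ∈ L.subgroupOf S, ψ p = 1 → p = 1 := by
    intro p hp hp1
    have hpL : (p : G) ∈ L := hp
    have h3 : MulAut.conj (QuotientGroup.mk ⟨(p : G), hpL⟩ : Bar L) = 1 := by
      rw [← act_of_mem hpL, act_eq_one_iff]
      exact (h1 p).mp hp1
    have h4 := F.cl _ h3
    rw [mk_eq_one_iff hpL] at h4
    exact Subtype.ext (eq_one_of_core h4 h.S2 p.2)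
  have hmem : ∀ p ∈ L.subgroupOf S, ψ p ∈ U := by
    intro p hp
    have hpL : (p : G) ∈ L := hp
    rw [h2]
    exact ⟨_, act_of_mem hpL⟩
  have hnorm : ∀ t : ↥S, ∀ p ∈ L.subgroupOf S, t * p * t⁻¹ ∈ L.subgroupOf S := by
    intro t p hp
    have hpL : (p : G) ∈ L := hp
    have h3 : (t : G) * p * (t : G)⁻¹ ∈ L := conj_mem (h.SN t.2) hpL
    exact h3
  have hSn : IsSyl (normalizer (L : Set G)) S := by
    refine ⟨h.S2, h.SN, fun R' hR _ hSR => ?_⟩
    have : Fact (Nat.Prime 2) := ⟨Nat.prime_two⟩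
    exact (h.S2.toSylow h.syl).is_maximal' hR hSR
  have hcard : 64 ≤ Nat.card ↥(L.subgroupOf S) := by
    have h3 := (hSn.inf le_normalizer le_rfl).dvd_card (k := 6) (card_dvd h.l34)
    have h4 : Nat.card ↥(L.subgroupOf S) = Nat.card ↥(S ⊓ L) := by
      rw [← card_map_of_injective S.subtype_injective, subgroupOf_map_subtype, inf_comm]
    rw [h4]
    exact Nat.le_of_dvd Nat.card_pos h3
  have hmap : (L.subgroupOf S).map ψ = U := by
    apply Subgroup.eq_of_le_of_card_ge
    · rintro _ ⟨p, hp, rfl⟩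
      exact hmem p hp
    · have h3 : Nat.card ↥((L.subgroupOf S).map ψ) = Nat.card ↥(L.subgroupOf S) := by
        have h4 := card_eq_inf_mul_map ψ (L.subgroupOf S)
        have h5 : L.subgroupOf S ⊓ ψ.ker = ⊥ := by
          rw [eq_bot_iff]
          rintro p ⟨hp, hk⟩
          exact hinj p hp hk
        rw [h5, card_bot, one_mul] at h4
        exact h4.symm
      rw [card_U, h3]
      exact hcard
  have hsurj : ∀ u ∈ U, ∃ p ∈ L.subgroupOf S, ψ p = u := by
    intro u hu
    rw [← hmap] at hu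
    obtain ⟨p, hp, hpu⟩ := hu
    exact ⟨p, hp, hpu⟩
  have hcomm : ∀ p ∈ L.subgroupOf S, ∀ q, ψ q = 1 → p * q = q * p := by
    intro p hp q hq
    have h3 : q * p * q⁻¹ * p⁻¹ ∈ L.subgroupOf S :=
      mul_mem (hnorm q p hp) (inv_mem hp)
    have h4 := hinj _ h3 (by
      rw [map_mul, map_mul, map_mul, map_inv, map_inv, hq]; group)
    calc p * q = (q * p * q⁻¹ * p⁻¹) * (p * q) := by rw [h4, one_mul]
      _ = q * p := by group
  obtain ⟨b, hb, hb'⟩ := hsurj pb pb_mem
  have hxx := sq_of_order h.T.invx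
  have haa := sq_of_order h.T.inva
  refine ⟨ψ, b, ⟨h.S2, h.syl, ⟨hmem, hsurj, hinj, hcomm, hnorm⟩, ?_, Subtype.ext hxx, ?_, ?_,
    Subtype.ext haa, ?_, ?_, hb, hb'⟩, h1, h2⟩
  · exact hx
  · rw [h1]
    exact fixes_self' h.T.comp.le
  · intro h3
    exact ne_one_of_order h.T.inva (congrArg Subtype.val h3)
  · intro s
    exact Subtype.ext (mem_centralizer_singleton_iff.mp (h.SC s.2))
  · intro q hq hqx hqq hq1
    exact Subtype.ext (h.uniq q q.2 ((h1 q).mp hq) (congrArg Subtype.val hqx) (congrArg Subtype.val hqq)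
      (fun h3 => hq1 (Subtype.ext h3)))

/-- involutions of `L` times `q` -/
theorem T1.conj_mul (kf : KF34.{u}) (h : T1 x a L S) {p p' q : G} (hp : p ∈ L) (hp' : p' ∈ L)
    (hpp : p * p = 1) (hp1 : p ≠ 1) (hpp' : p' * p' = 1) (hp1' : p' ≠ 1) (hq : Fixes q L) (hqq : q * q = 1)
    (hpq : p * q = q * p) (hpq' : p' * q = q * p') : IsConj (p * q) (p' * q) := by
  have F := ft_of_triple kf h.T h.l34
  have hne : ∀ p : G, ∀ hp : p ∈ L, p * p = 1 → p ≠ 1 → (QuotientGroup.mk ⟨p, hp⟩ : Bar L) ≠ 1 := by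
    intro p hp hpp hp1 h1
    rw [mk_eq_one_iff hp] at h1
    exact hp1 (eq_one_of_mem_core_sq h1 hpp)
  obtain ⟨g', hg'⟩ := F.cls (QuotientGroup.mk ⟨p, hp⟩) (QuotientGroup.mk ⟨p', hp'⟩)
    (by rw [← QuotientGroup.mk_mul]
        have : (⟨p, hp⟩ * ⟨p, hp⟩ : ↥L) = 1 := Subtype.ext hpp
        rw [this]; rfl)
    (hne p hp hpp hp1)
    (by rw [← QuotientGroup.mk_mul]
        have : (⟨p', hp'⟩ * ⟨p', hp'⟩ : ↥L) = 1 := Subtype.ext hpp'
        rw [this]; rfl)
    (hne p' hp' hpp' hp1')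
  obtain ⟨⟨g, hg⟩, rfl⟩ := QuotientGroup.mk_surjective g'
  -- `g p g⁻¹ p' ∈ O(L)`
  have h1 : (g * p * g⁻¹) * p' ∈ core L := by
    have h2 : (QuotientGroup.mk ⟨g * p * g⁻¹, mul_mem (mul_mem hg hp) (inv_mem hg)⟩ : Bar L) =
        QuotientGroup.mk ⟨p', hp'⟩ := hg'
    rw [mk_eq_iff] at h2
    have h3 : (g * p * g⁻¹)⁻¹ = g * p * g⁻¹ := by
      apply inv_eq_of_mul_eq_one_left
      calc g * p * g⁻¹ * (g * p * g⁻¹) = g * (p * p) * g⁻¹ := by group
        _ = 1 := by rw [hpp]; group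
    rwa [h3] at h2
  -- `[g, q] ∈ O(L)`
  have h2 : q * g * q⁻¹ * g⁻¹ ∈ core L := by
    have := hq.2 g hg
    rwa [commutatorElement_def] at this
  have hN : ∀ c ∈ core L, ∀ n ∈ L, n * c * n⁻¹ ∈ core L := by
    intro c hc n hn
    exact conj_mem_core (le_normalizer hn) hc
  have hqi : q⁻¹ = q := inv_eq_of_mul_eq_one_left hqq
  have h4 : (p' * q) * (g * (p * q) * g⁻¹) ∈ core L := by
    have e1 : q * (p * q) = p := by
      calc q * (p * q) = (q * q) * p := by rw [hpq, mul_assoc]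
        _ = p := by rw [hqq, one_mul]
    have e : (p' * q) * (g * (p * q) * g⁻¹) =
        p' * (q * g * q⁻¹ * g⁻¹) * p'⁻¹ * (p' * ((g * p * g⁻¹) * p') * p'⁻¹) := by
      calc (p' * q) * (g * (p * q) * g⁻¹) = p' * (q * g * q⁻¹ * g⁻¹) * (g * (q * (p * q)) * g⁻¹) := by group
        _ = p' * (q * g * q⁻¹ * g⁻¹) * (g * p * g⁻¹) := by rw [e1]
        _ = _ := by group
    rw [e]
    exact mul_mem (hN _ h2 p' hp') (hN _ h1 p' hp')
  have e1 : (p' * q) * (p' * q) = 1 := by
    calc (p' * q) * (p' * q) = p' * (q * p') * q := by group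
      _ = p' * (p' * q) * q := by rw [hpq']
      _ = (p' * p') * (q * q) := by group
      _ = 1 := by rw [hpp', hqq, one_mul]
  have e2 : (p * q) * (p * q) = 1 := by
    calc (p * q) * (p * q) = p * (q * p) * q := by group
      _ = p * (p * q) * q := by rw [hpq]
      _ = (p * p) * (q * q) := by group
      _ = 1 := by rw [hpp, hqq, one_mul]
  have e3 : (g * (p * q) * g⁻¹) * (g * (p * q) * g⁻¹) = 1 := by
    calc (g * (p * q) * g⁻¹) * (g * (p * q) * g⁻¹) = g * ((p * q) * (p * q)) * g⁻¹ := by group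
      _ = 1 := by rw [e2]; group
  have h5 : ((p' * q) * (g * (p * q) * g⁻¹)) ^ Nat.card ↥(core L) = 1 := by
    have := pow_card_eq_one' (x := (⟨_, h4⟩ : ↥(core L)))
    exact congrArg Subtype.val this
  have h6 := LTF.Link.isConj_of_odd e1 e3 (odd_card_core L) h5
  refine IsConj.trans ?_ h6
  rw [isConj_iff]
  exact ⟨g, rfl⟩

/-- neither `x` nor `x a` is in the kernel of all `G → {1, -1}` -/
theorem T1.false_of_hom (kf : KF34.{u}) (h : T1 x a L S)
    (hf : (∀ f : G →* ℤˣ, f x = 1) ∨ (∀ f : G →* ℤˣ, f (x * a) = 1)) : False := by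
  obtain ⟨ψ, b, C, h1, h2⟩ := h.exists_ctx kf
  have hL : ∀ p ∈ L.subgroupOf S, ∀ p' ∈ L.subgroupOf S, p * p = 1 → p ≠ 1 → p' * p' = 1 → p' ≠ 1 →
      ∀ q : ↥S, ψ q = 1 → q * q = 1 → IsConj (((p * q : ↥S)) : G) ((p' * q : ↥S) : G) := by
    intro p hp p' hp' hpp hp1 hpp' hp1' q hq hqq
    exact h.conj_mul kf hp hp' (congrArg Subtype.val hpp) (fun h3 => hp1 (Subtype.ext h3))
      (congrArg Subtype.val hpp') (fun h3 => hp1' (Subtype.ext h3)) ((h1 q).mp hq)
      (congrArg Subtype.val hqq) (congrArg Subtype.val (C.mod.comm p hp q hq))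
      (congrArg Subtype.val (C.mod.comm p' hp' q hq))
  have e1 : centralizer ({a} : Set G) ⊓ normalizer (L : Set G) ⊓ centralizer ({x} : Set G) =
      centralizer ({a} : Set G) ⊓ centralizer ({x} : Set G) := by
    apply le_antisymm
    · exact le_inf (inf_le_left.trans inf_le_left) inf_le_right
    · rintro c ⟨hc1, hc2⟩
      exact ⟨⟨hc1, h.norm_ax kf (mem_centralizer_singleton_iff.mp hc1) (mem_centralizer_singleton_iff.mp hc2)⟩,
        hc2⟩
  have tx := h.sx
  rw [e1] at tx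
  rcases hf with hf | hf
  · exact C.main tx hL hf
  · have hxa := h.T.comm
    have haa := sq_of_order h.T.inva
    have hca : ∀ c : G, c * a = a * c → (c * (x * a) = (x * a) * c ↔ c * x = x * c) := by
      intro c hc
      constructor
      · intro h3
        have h4 : c * x * a = x * c * a := by
          calc c * x * a = c * (x * a) := by group
            _ = x * (a * c) := by rw [h3]; group
            _ = x * c * a := by rw [← hc]; group
        exact mul_right_cancel h4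
      · intro h3
        calc c * (x * a) = (c * x) * a := by group
          _ = x * (c * a) := by rw [h3]; group
          _ = _ := by rw [hc]; group
    have e2 : centralizer ({a} : Set G) ⊓ centralizer ({x * a} : Set G) =
        centralizer ({a} : Set G) ⊓ centralizer ({x} : Set G) := by
      ext c
      rw [mem_inf, mem_inf, mem_centralizer_singleton_iff, mem_centralizer_singleton_iff,
        mem_centralizer_singleton_iff]
      exact and_congr_right fun hc => hca c hc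
    have e3 : S ⊓ centralizer ({x * a} : Set G) = S ⊓ centralizer ({x} : Set G) := by
      ext c
      rw [mem_inf, mem_inf, mem_centralizer_singleton_iff, mem_centralizer_singleton_iff]
      exact and_congr_right fun hc => hca c (mem_centralizer_singleton_iff.mp (h.SC hc))
    have C' : Ctx S ψ (L.subgroupOf S) (⟨x, h.xS⟩ * ⟨a, h.aS⟩) ⟨a, h.aS⟩ b := by
      refine ⟨C.pg, C.syl, C.mod, ?_, ?_, C.ha, C.a1, C.aa, C.ac, ?_, C.hbP, C.hb⟩
      · rw [map_mul, C.hx, C.ha, mul_one]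
      · apply Subtype.ext
        change (x * a) * (x * a) = 1
        calc (x * a) * (x * a) = x * (a * x) * a := by group
          _ = x * (x * a) * a := by rw [← hxa]
          _ = (x * x) * (a * a) := by group
          _ = 1 := by rw [sq_of_order h.T.invx, haa, one_mul]
      · intro q hq hqx hqq hq1
        refine C.uniq q hq ?_ hqq hq1
        apply Subtype.ext
        have h3 : (q : G) * (x * a) = (x * a) * q := congrArg Subtype.val hqx
        exact (hca q (mem_centralizer_singleton_iff.mp (h.SC q.2))).mp h3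
    refine C'.main ?_ hL hf
    change IsSyl (centralizer ({a} : Set G) ⊓ centralizer ({x * a} : Set G)) (S ⊓ centralizer ({x * a} : Set G))
    rw [e2, e3]
    exact tx

end Cfsg.Agent.UGT.LSup
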