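import Cfsg.Agent.UGT.Parity

/-!
# Parity on the cosets of a Sylow 2-subgroup

`S` of odd index, `lam : S → {1, -1}`, `x` in the kernel of all homomorphisms `G → {1, -1}`, `x ∈ T ≤ C(x)` a
2-group: some conjugate `T ^ g ≤ S` has `lam (x ^ g) = 1`.
-/

set_option autoImplicit false

open Subgroup MulAction

namespace Cfsg.Agent.UGT.L34

variable {G : Type*} [Group G]

open Classical in
/-- the sign of `g` at `k S` -/
noncomputable def sval {S : Subgroup G} (lam : ↥S →* ℤˣ) (k g : G) : ℤˣ :=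
  if h : k⁻¹ * g * k ∈ S then lam ⟨_, h⟩ else 1

theorem sval_of {S : Subgroup G} {lam : ↥S →* ℤˣ} {k g : G} (h : k⁻¹ * g * k ∈ S) :
    sval lam k g = lam ⟨_, h⟩ := dif_pos h

theorem sval_mul {S : Subgroup G} {lam : ↥S →* ℤˣ} {k g g' : G} (h : k⁻¹ * g * k ∈ S)
    (h' : k⁻¹ * g' * k ∈ S) : sval lam k (g * g') = sval lam k g * sval lam k g' := by
  have e : k⁻¹ * (g * g') * k = (k⁻¹ * g * k) * (k⁻¹ * g' * k) := by group
  have h2 : k⁻¹ * (g * g') * k ∈ S := by rw [e]; exact S.mul_mem h h'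
  rw [sval_of h, sval_of h', sval_of h2, ← map_mul]
  congr 1
  exact Subtype.ext e

theorem sval_conj {S : Subgroup G} {lam : ↥S →* ℤˣ} {k g m s : G} (hs : s ∈ S) (h : k⁻¹ * g * k ∈ S) :
    sval lam (m * k * s) (m * g * m⁻¹) = sval lam k g := by
  have e : (m * k * s)⁻¹ * (m * g * m⁻¹) * (m * k * s) = s⁻¹ * (k⁻¹ * g * k) * s := by group
  have h2 : (m * k * s)⁻¹ * (m * g * m⁻¹) * (m * k * s) ∈ S := by
    rw [e]; exact S.mul_mem (S.mul_mem (S.inv_mem hs) h) hs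
  rw [sval_of h, sval_of h2]
  have e2 : (⟨_, h2⟩ : ↥S) = (⟨s, hs⟩ : ↥S)⁻¹ * ⟨_, h⟩ * ⟨s, hs⟩ := Subtype.ext e
  rw [e2, map_mul, map_mul, map_inv, mul_comm, ← mul_assoc, mul_inv_cancel, one_mul]

theorem smul_eq_iff {S : Subgroup G} {g : G} (ω : G ⧸ S) :
    g • ω = ω ↔ ω.out⁻¹ * g * ω.out ∈ S := by
  have h1 : ((ω.out : G) : G ⧸ S) = ω := QuotientGroup.out_eq' ω
  have h2 : g • ω = ((g * ω.out : G) : G ⧸ S) := by
    conv_lhs => rw [← h1]
    rfl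
  have h3 : (((ω.out : G) : G ⧸ S) = ((g * ω.out : G) : G ⧸ S)) ↔ ω.out⁻¹ * (g * ω.out) ∈ S :=
    QuotientGroup.eq
  rw [h1] at h3
  rw [h2, eq_comm, h3, mul_assoc]

/-- the parity -/
theorem isParity {S : Subgroup G} (lam : ↥S →* ℤˣ) :
    Parity.IsParity (Ω := G ⧸ S) (fun ω g => sval lam ω.out g = 1) := by
  constructor
  · intro ω g h hg hh
    rw [smul_eq_iff] at hg hh
    rw [sval_mul hg hh]
    rcases Int.units_eq_one_or (sval lam ω.out g) with h1 | h1 <;>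
      rcases Int.units_eq_one_or (sval lam ω.out h) with h2 | h2 <;> rw [h1, h2] <;> decide
  · intro ω g h hh
    rw [smul_eq_iff] at hh
    -- `(g • ω).out = g ω.out s`
    obtain ⟨s, hs, e⟩ : ∃ s ∈ S, (g • ω).out = g * ω.out * s := by
      refine ⟨(g * ω.out)⁻¹ * (g • ω).out, ?_, by group⟩
      rw [← QuotientGroup.eq]
      have h1 : ((ω.out : G) : G ⧸ S) = ω := QuotientGroup.out_eq' ω
      have h2 : g • ω = ((g * ω.out : G) : G ⧸ S) := by
        conv_lhs => rw [← h1]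
        rfl
      rw [← h2]
      exact (QuotientGroup.out_eq' (g • ω)).symm
    change sval lam (g • ω).out (g * h * g⁻¹) = 1 ↔ sval lam ω.out h = 1
    rw [e, sval_conj hs hh]

/-- **PAR** for a Sylow 2-subgroup. -/
theorem exists_even [Finite G] {S : Subgroup G} (hS : ¬ 2 ∣ S.index) (lam : ↥S →* ℤˣ) {x : G}
    (hx : x * x = 1) {T : Subgroup G} (hT : IsPGroup 2 ↥T) (hxT : x ∈ T)
    (hTx : T ≤ centralizer ({x} : Set G)) (hf : ∀ f : G →* ℤˣ, f x = 1) :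
    ∃ (g : G) (hg : g⁻¹ * x * g ∈ S), (∀ t ∈ T, g⁻¹ * t * g ∈ S) ∧ lam ⟨_, hg⟩ = 1 := by
  have : Fact (Nat.Prime 2) := ⟨Nat.prime_two⟩
  obtain ⟨f, hfx⟩ := Parity.exists_hom_fixed (isParity lam)
  have h1 := hfx x T hx hT hTx
  rw [hf f] at h1
  -- the number of fixed points of `T` is odd
  have h2 : Odd (Nat.card (fixedPoints ↥T (G ⧸ S))) := by
    have h3 := hT.card_modEq_card_fixedPoints (G ⧸ S)
    rw [← Nat.not_even_iff_odd, even_iff_two_dvd]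
    intro h4
    apply hS
    have h5 : Nat.card (G ⧸ S) ≡ 0 [MOD 2] := h3.trans ((Nat.modEq_zero_iff_dvd).mpr h4)
    rw [← Subgroup.index_eq_card] at h5
    exact (Nat.modEq_zero_iff_dvd).mp h5
  by_contra hno
  push Not at hno
  have e : fixedPoints ↥T (G ⧸ S) ≃
      {ω : G ⧸ S // (x • ω = ω ∧ ¬ sval lam ω.out x = 1) ∧ ∀ t ∈ T, t • ω = ω} :=
    { toFun := fun ω => ⟨ω.1, ⟨ω.2 ⟨x, hxT⟩, fun h => by
          have h3 := (smul_eq_iff ω.1).mp (ω.2 ⟨x, hxT⟩)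
          exact hno ω.1.out h3 (fun t ht => (smul_eq_iff ω.1).mp (ω.2 ⟨t, ht⟩))
            ((sval_of h3).symm.trans h)⟩, fun t ht => ω.2 ⟨t, ht⟩⟩
      invFun := fun ω => ⟨ω.1, fun t => ω.2.2 t t.2⟩
      left_inv := fun _ => rfl
      right_inv := fun _ => rfl }
  rw [← Nat.card_congr e, h2.neg_one_pow] at h1
  exact absurd h1 (by decide)

end Cfsg.Agent.UGT.L34
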