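import Cfsg.Agent.UGT.L34.Ctx
import Cfsg.Agent.UGT.L34.ParS
import Cfsg.Agent.UGT.TriBase

/-!
# Case T1: no polarity in the kernel of all `G → {1, -1}`

`Ctx.main`: in the situation `Ctx` let `C_S(x)` be a Sylow 2-subgroup of `C(a, x)`, let the involutions of `P` be
conjugate modulo `Q`, and let `x` be in the kernel of all homomorphisms `G → {1, -1}`. This is impossible.
-/

set_option autoImplicit false

open Subgroup
open Cfsg.Agent.Intrinsic.Basic Cfsg.Agent.Intrinsic.Cen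
open Cfsg.Agent.SignalizersComponents.IntrinsicBasic
open Cfsg.Agent.UGT.TriBase

namespace Cfsg.Agent.UGT.L34

variable {G : Type*} [Group G]

/-- normalizers grow in 2-groups -/
theorem exists_norm [Finite G] {T U : Subgroup G} (hU : IsPGroup 2 U) (hle : T ≤ U)
    (hne : ¬ U ≤ T) : ∃ y ∈ U, y ∉ T ∧ (∀ g ∈ T, y * g * y⁻¹ ∈ T) ∧ ∀ g ∈ T, y⁻¹ * g * y ∈ T := by
  have : Fact (Nat.Prime 2) := ⟨Nat.prime_two⟩
  have hnil : Group.IsNilpotent U := hU.isNilpotent
  have hlt : T.subgroupOf U < ⊤ := by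
    rw [lt_top_iff_ne_top]
    intro h
    exact hne (Subgroup.subgroupOf_eq_top.1 h)
  have h1 := Group.normalizerCondition_of_isNilpotent (T.subgroupOf U) hlt
  obtain ⟨y, hy, hyT⟩ := Set.exists_of_ssubset h1
  refine ⟨y, y.2, fun h => hyT h, fun g hg => ?_, fun g hg => ?_⟩
  · exact (Subgroup.mem_normalizer_iff.1 hy ⟨g, hle hg⟩).1 hg
  · have h2 := (Subgroup.mem_normalizer_iff.1 (inv_mem hy) ⟨g, hle hg⟩).1 hg
    have h3 : (y : G)⁻¹ * g * (y : G)⁻¹⁻¹ ∈ T := h2
    rwa [inv_inv] at h3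

theorem isPGroup_of_elem {V : Subgroup G} (hV : Elem V) : IsPGroup 2 V := fun v =>
  ⟨1, Subtype.ext (by
    change (v.1) ^ (2 ^ 1) = 1
    rw [pow_one, pow_two, hV.1 _ v.2])⟩

/-- adjoin an involution: the order doubles -/
theorem exists_double [Finite G] {F : Subgroup G} (hF : Elem F) {q : G} (hq : q * q = 1) (hqF : q ∉ F)
    (hc : ∀ f ∈ F, q * f = f * q) : ∃ F' : Subgroup G, Elem F' ∧ 2 * Nat.card F ≤ Nat.card F' ∧
      ∀ y ∈ F', y ∈ F ∨ ∃ f ∈ F, y = q * f := by
  obtain ⟨F', h1, h2, h3, h4⟩ := exists_adjoin hF hq hc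
  refine ⟨F', h3, ?_, h4⟩
  obtain ⟨k, hk⟩ := Subgroup.card_dvd_of_le h1
  have hpos : 0 < Nat.card F' := Nat.card_pos
  have hk0 : k ≠ 0 := by rintro rfl; omega
  have hk1 : k ≠ 1 := by
    rintro rfl
    apply hqF
    have := Subgroup.eq_of_le_of_card_ge h1 (by rw [hk, mul_one])
    rw [this]; exact h2
  rw [hk, mul_comm 2]
  exact Nat.mul_le_mul_left _ (by omega)

section

variable {S : Subgroup G} {ψ : ↥S →* E} {P : Subgroup ↥S} {x a b : ↥S}

theorem Ctx.x_comm_iff {s y : ↥S} : s * y = y * s ↔ (s : G) * y = y * s :=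
  ⟨fun h => congrArg Subtype.val h, fun h => Subtype.ext h⟩

/-- the preimage in `P` of a subgroup of `U` -/
theorem Mod.pre [Finite G] (M : Mod ψ P) {A : Subgroup E} (hAU : A ≤ U) (hA : Elem A) :
    ∃ F : Subgroup ↥S, F ≤ P ∧ Elem F ∧ (∀ f ∈ F, ψ f ∈ A) ∧ Nat.card F = Nat.card A := by
  refine ⟨P ⊓ A.comap ψ, inf_le_left, ⟨?_, ?_⟩, fun f hf => hf.2, ?_⟩
  · rintro f ⟨h1, h2⟩
    exact M.inj _ (P.mul_mem h1 h1) (by rw [map_mul, hA.1 _ h2])
  · rintro f ⟨h1, h2⟩ g ⟨h3, h4⟩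
    exact M.ext (P.mul_mem h1 h3) (P.mul_mem h3 h1) (by rw [map_mul, hA.2 _ h2 _ h4, map_mul])
  · rw [card_eq_inf_mul_map ψ]
    have e1 : (P ⊓ A.comap ψ) ⊓ ψ.ker = ⊥ := by
      rw [eq_bot_iff]
      rintro f ⟨⟨h1, -⟩, h2⟩
      exact M.inj f h1 h2
    have e2 : (P ⊓ A.comap ψ).map ψ = A := by
      ext u
      constructor
      · rintro ⟨f, ⟨-, h⟩, rfl⟩; exact h
      · intro hu
        obtain ⟨p, hp, rfl⟩ := M.surj u (hAU hu)
        exact ⟨p, ⟨hp, hu⟩, rfl⟩
    rw [e1, e2, card_bot, one_mul]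

variable [Finite G]

/-- **Case A**: `C_S(x)` is a Sylow 2-subgroup of `C(x)`. -/
theorem Ctx.caseA (C : Ctx S ψ P x a b)
    (hA : IsSyl (centralizer ({(x : G)} : Set G)) (S ⊓ centralizer ({(x : G)} : Set G)))
    (hf : ∀ f : G →* ℤˣ, f x = 1) : False := by
  have hxx : (x : G) * x = 1 := congrArg Subtype.val C.xx
  -- parity
  have hT2 : IsPGroup 2 ↥(S ⊓ centralizer ({(x : G)} : Set G)) := hA.two
  obtain ⟨g, hg, hgT, hlam⟩ := exists_even C.syl (lf.comp ψ) hxx hT2
    ⟨x.2, mem_centralizer_singleton_iff.mpr rfl⟩ inf_le_right hf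
  obtain ⟨y, hy⟩ : ∃ y : ↥S, y = ⟨g⁻¹ * x * g, hg⟩ := ⟨_, rfl⟩
  have hyG : (y : G) = g⁻¹ * x * g := by rw [hy]
  have hyf : (ψ y).f = false := by
    rw [← lf_eq_one, hy]; exact hlam
  have hyy : y * y = 1 := Subtype.ext (by
    change (y : G) * y = 1
    rw [hyG]
    calc g⁻¹ * x * g * (g⁻¹ * x * g) = g⁻¹ * (x * x) * g := by group
      _ = 1 := by rw [hxx]; group)
  -- rank
  have hrank : ∀ F : Subgroup ↥S, Elem F → (∀ f ∈ F, f * y = y * f) → Nat.card F ≤ 16 := by
    intro F hF hc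
    let V : Subgroup G := cj g (F.map S.subtype)
    have hV : Elem V := elem_map (elem_map hF _) (MulAut.conj g).toMonoidHom
    have hVx : V ≤ centralizer ({(x : G)} : Set G) := by
      intro v hv
      rw [mem_cj] at hv
      obtain ⟨f, hf, hfv⟩ := hv
      have h1 : (f : G) * y = y * f := congrArg Subtype.val (hc f hf)
      have h2 : (f : G) = g⁻¹ * v * g := hfv
      rw [mem_centralizer_singleton_iff]
      rw [h2, hyG] at h1
      calc v * x = g * (g⁻¹ * v * g * (g⁻¹ * x * g)) * g⁻¹ := by group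
        _ = g * (g⁻¹ * x * g * (g⁻¹ * v * g)) * g⁻¹ := by rw [h1]
        _ = x * v := by group
    obtain ⟨k, hk, hVk⟩ := hA.conj (isPGroup_of_elem hV) hVx
    have hkx : k * x = x * k := mem_centralizer_singleton_iff.mp hk
    let W : Subgroup G := cj k⁻¹ V
    have hW : Elem W := elem_map hV (MulAut.conj k⁻¹).toMonoidHom
    have hWS : W ≤ S ⊓ centralizer ({(x : G)} : Set G) := by
      intro w hw
      rw [mem_cj, inv_inv] at hw
      have h1 := hVk hw
      rw [mem_cj] at h1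
      have h2 : k⁻¹ * (k * w * k⁻¹) * k = w := by group
      rwa [h2] at h1
    have hcard : Nat.card W = Nat.card F := by
      rw [card_cj, card_cj, card_map_of_injective S.subtype_injective]
    have h1 : Nat.card (W.subgroupOf S) = Nat.card W :=
      Nat.card_congr (subgroupOfEquivOfLe (hWS.trans inf_le_left)).toEquiv
    rw [← hcard, ← h1]
    apply C.card_le
    · constructor
      · intro u hu; exact Subtype.ext (hW.1 _ hu)
      · intro u hu v hv; exact Subtype.ext (hW.2 _ hu _ hv)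
    · intro v hv
      exact Subtype.ext (mem_centralizer_singleton_iff.mp (hWS hv).2)
  rcases hyg : (ψ y).g with _ | _
  · -- label 1
    obtain ⟨p, hp, q, hq, hpq⟩ := C.mod.split (show ψ y ∈ U from ⟨hyf, hyg⟩)
    have hyy' := hyy
    rw [hpq] at hyy'
    obtain ⟨hpp, -⟩ := C.mod.sq_split hp hq hyy'
    have key : ∀ A : Subgroup E, A ≤ U → Elem A → Nat.card A = 16 → ψ p ∈ A → False := by
      intro A hAU hAe hA16 hpA
      obtain ⟨F, hFP, hFe, hFA, hFc⟩ := C.mod.pre hAU hAe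
      have haF : a ∉ F := fun h => C.a1 (C.mod.inj a (hFP h) C.ha)
      obtain ⟨F', h1, h2, h3⟩ := exists_double hFe C.aa haF (fun f _ => (C.ac f).symm)
      have h4 : ∀ f ∈ F, f * y = y * f := by
        intro f hf
        have h5 : f * p = p * f := C.mod.ext (P.mul_mem (hFP hf) hp) (P.mul_mem hp (hFP hf))
          (by rw [map_mul, hAe.2 _ (hFA f hf) _ hpA, map_mul])
        have h6 := C.mod.comm f (hFP hf) q hq
        rw [hpq]
        calc f * (p * q) = (f * p) * q := by group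
          _ = p * (f * q) := by rw [h5]; group
          _ = _ := by rw [h6]; group
      have h5 := hrank F' h1 (by
        intro f hf
        rcases h3 f hf with h | ⟨f', hf', rfl⟩
        · exact h4 f h
        · calc a * f' * y = a * (f' * y) := by group
            _ = a * (y * f') := by rw [h4 f' hf']
            _ = (a * y) * f' := by group
            _ = (y * a) * f' := by rw [C.ac]
            _ = _ := by group)
      rw [hFc, hA16] at h2
      omega
    rcases inv_U (C.mod.mem p hp) (by rw [← map_mul, hpp, map_one]) with h | h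
    · exact key A1 (fun s hs => hs.1) elem_A1 card_A1 h
    · exact key A2 (fun s hs => hs.1) elem_A2 card_A2 h
  · -- label `γ`
    obtain ⟨w1, hw1, w2, hw2, hw1x, hw2x, -, -, e1, e2, e3⟩ := C.exists_w
    have hcx : ∀ w : ↥S, w * x = x * w → ∃ w' : ↥S, (w' : G) = g⁻¹ * w * g ∧ w' * y = y * w' := by
      intro w hw
      have hwG : (w : G) * x = x * w := congrArg Subtype.val hw
      refine ⟨⟨g⁻¹ * w * g, hgT w ⟨w.2, mem_centralizer_singleton_iff.mpr hwG⟩⟩, rfl, Subtype.ext ?_⟩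
      change g⁻¹ * w * g * (y : G) = y * (g⁻¹ * w * g)
      rw [hyG]
      calc g⁻¹ * w * g * (g⁻¹ * x * g) = g⁻¹ * (w * x) * g := by group
        _ = g⁻¹ * (x * w) * g := by rw [hwG]
        _ = _ := by group
    obtain ⟨v1, hv1, hv1y⟩ := hcx w1 hw1x
    obtain ⟨v2, hv2, hv2y⟩ := hcx w2 hw2x
    obtain ⟨β, hβ, hβy⟩ := hcx b (C.bc x).symm
    have f1 : v1 * v1 = β := Subtype.ext (by
      change (v1 : G) * v1 = β
      rw [hv1, hβ, ← e1]
      change g⁻¹ * w1 * g * (g⁻¹ * w1 * g) = g⁻¹ * (w1 * w1) * g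
      group)
    have f2 : v2 * v2 = β := Subtype.ext (by
      change (v2 : G) * v2 = β
      rw [hv2, hβ, ← e2]
      change g⁻¹ * w2 * g * (g⁻¹ * w2 * g) = g⁻¹ * (w2 * w2) * g
      group)
    have f3 : v1 * v2 * v1⁻¹ * v2⁻¹ = β := Subtype.ext (by
      change (v1 : G) * v2 * (v1 : G)⁻¹ * (v2 : G)⁻¹ = β
      rw [hv1, hv2, hβ, ← e3]
      change _ = g⁻¹ * (w1 * w2 * (w1 : G)⁻¹ * (w2 : G)⁻¹) * g
      group)
    have hyy2 : ψ y * ψ y = 1 := by rw [← map_mul, hyy, map_one]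
    have hψβ : ψ β = 1 := by
      by_contra hne
      have h1 : ψ v1 * ψ v1 ≠ 1 := by rw [← map_mul, f1]; exact hne
      have h2 : ψ v2 * ψ v2 ≠ 1 := by rw [← map_mul, f2]; exact hne
      have h3 := comm_of_cent_g hyf hyg hyy2 (by rw [← map_mul, hv1y, map_mul])
        (by rw [← map_mul, hv2y, map_mul]) h1 h2
      apply hne
      rw [← f3, map_mul, map_mul, map_mul, map_inv, map_inv, h3]
      group
    have hbβ : IsConj (b : G) (β : G) := by
      rw [isConj_iff]
      exact ⟨g⁻¹, by rw [hβ, inv_inv]⟩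
    have hββ : β * β = 1 := Subtype.ext (by
      have hbb : (b : G) * b = 1 := congrArg Subtype.val C.bb
      change (β : G) * β = 1
      rw [hβ]
      calc g⁻¹ * b * g * (g⁻¹ * b * g) = g⁻¹ * (b * b) * g := by group
        _ = 1 := by rw [hbb]; group)
    have hβa : β ≠ a := by
      rintro rfl
      exact C.ab_ne (C.eq_of_conj C.bb C.bc C.ac hbβ).symm
    have hβ1 : β ≠ 1 := by
      intro h
      rw [h] at hβ
      have h1 : (b : G) = g * (g⁻¹ * b * g) * g⁻¹ := by group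
      apply C.b1
      apply Subtype.ext
      rw [h1, ← hβ]
      change g * 1 * g⁻¹ = 1
      group
    -- the subgroup of order 32
    obtain ⟨F0, hFP, hFe, hFA, hFc⟩ := C.mod.pre (A := ZU) (fun s hs => hs.1)
      (elem_mono (show ZU ≤ A1 from fun s hs => ⟨hs.1, hs.2.1⟩) elem_A1)
    have haF : a ∉ F0 := fun h => C.a1 (C.mod.inj a (hFP h) C.ha)
    obtain ⟨F1, he1, hc1, hm1⟩ := exists_double hFe C.aa haF (fun f _ => (C.ac f).symm)
    have hβ0 : ∀ f ∈ F0, β * f = f * β := fun f hf => (C.mod.comm f (hFP hf) β hψβ).symm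
    have hβF : β ∉ F1 := by
      intro h
      rcases hm1 β h with h | ⟨f, hf, h⟩
      · exact hβ1 (C.mod.inj β (hFP h) hψβ)
      · have h1 : ψ f = 1 := by
          have := congrArg ψ h
          rwa [hψβ, map_mul, C.ha, one_mul, eq_comm] at this
        rw [C.mod.inj f (hFP hf) h1, mul_one] at h
        exact hβa h
    obtain ⟨F2, he2, hc2, hm2⟩ := exists_double he1 hββ hβF (by
      intro f hf
      rcases hm1 f hf with h | ⟨f', hf', rfl⟩
      · exact hβ0 f h
      · calc β * (a * f') = (β * a) * f' := by group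
          _ = a * (β * f') := by rw [C.ac]; group
          _ = _ := by rw [hβ0 f' hf']; group)
    have hy0 : ∀ f ∈ F0, y * f = f * y := by
      intro f hf
      have h1 : y * f * y⁻¹ = f := by
        apply C.mod.ext (C.mod.norm y f (hFP hf)) (hFP hf)
        rw [map_mul, map_mul, map_inv, cent_g _ _ hyf (hFA f hf), mul_inv_cancel_right]
      calc y * f = y * f * y⁻¹ * y := by group
        _ = f * y := by rw [h1]
    have hy1 : ∀ f ∈ F1, y * f = f * y := by
      intro f hf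
      rcases hm1 f hf with h | ⟨f', hf', rfl⟩
      · exact hy0 f h
      · calc y * (a * f') = (y * a) * f' := by group
          _ = a * (y * f') := by rw [C.ac]; group
          _ = _ := by rw [hy0 f' hf']; group
    have hy2 : ∀ f ∈ F2, y * f = f * y := by
      intro f hf
      rcases hm2 f hf with h | ⟨f', hf', rfl⟩
      · exact hy1 f h
      · calc y * (β * f') = (y * β) * f' := by group
          _ = β * (y * f') := by rw [← hβy]; group
          _ = _ := by rw [hy1 f' hf']; group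
    have hyF : y ∉ F2 := by
      intro h
      have hU0 : ∀ f ∈ F0, ψ f ∈ U := fun f hf => (hFA f hf).1
      have hU1 : ∀ f ∈ F1, ψ f ∈ U := by
        intro f hf
        rcases hm1 f hf with h | ⟨f', hf', rfl⟩
        · exact hU0 f h
        · rw [map_mul, C.ha, one_mul]; exact hU0 f' hf'
      have hU2 : ∀ f ∈ F2, ψ f ∈ U := by
        intro f hf
        rcases hm2 f hf with h | ⟨f', hf', rfl⟩
        · exact hU1 f h
        · rw [map_mul, hψβ, one_mul]; exact hU1 f' hf'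
      have := (hU2 y h).2
      rw [hyg] at this
      exact absurd this (by decide)
    obtain ⟨F3, he3, hc3, hm3⟩ := exists_double he2 hyy hyF hy2
    have h5 := hrank F3 he3 (by
      intro f hf
      rcases hm3 f hf with h | ⟨f', hf', rfl⟩
      · exact (hy2 f h).symm
      · calc y * f' * y = y * (f' * y) := by group
          _ = y * (y * f') := by rw [hy2 f' hf'])
    rw [hFc, card_ZU] at hc1
    omega

/-- **Case B**: `C_S(x)` is not a Sylow 2-subgroup of `C(x)`. -/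
theorem Ctx.caseB (C : Ctx S ψ P x a b)
    (tx : IsSyl (centralizer ({(a : G)} : Set G) ⊓ centralizer ({(x : G)} : Set G))
      (S ⊓ centralizer ({(x : G)} : Set G)))
    (hA : ¬ IsSyl (centralizer ({(x : G)} : Set G)) (S ⊓ centralizer ({(x : G)} : Set G)))
    (hL : ∀ p ∈ P, ∀ p' ∈ P, p * p = 1 → p ≠ 1 → p' * p' = 1 → p' ≠ 1 → ∀ q : ↥S, ψ q = 1 → q * q = 1 →
      IsConj (((p * q : ↥S)) : G) ((p' * q : ↥S) : G)) : False := by
  obtain ⟨T, hT⟩ : ∃ T, T = S ⊓ centralizer ({(x : G)} : Set G) := ⟨_, rfl⟩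
  have hTm : ∀ s : ↥S, s * x = x * s → (s : G) ∈ T := fun s hs => by
    rw [hT]; exact ⟨s.2, mem_centralizer_singleton_iff.mpr (congrArg Subtype.val hs)⟩
  have hTS : T ≤ S := hT ▸ inf_le_left
  have hTx : ∀ t ∈ T, t * (x : G) = x * t := fun t ht => by
    rw [hT] at ht; exact mem_centralizer_singleton_iff.mp ht.2
  have hT2 : IsPGroup 2 ↥T := hT ▸ tx.two
  have haG : ∀ s ∈ S, s * (a : G) = a * s := fun s hs => congrArg Subtype.val (C.ac ⟨s, hs⟩)
  -- an element of `C(x)` normalizing `T` and moving `a`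
  obtain ⟨u, hux, huT, hua⟩ : ∃ u : G, u * x = x * u ∧ (∀ t ∈ T, u * t * u⁻¹ ∈ T) ∧
      u * a * u⁻¹ ≠ a := by
    by_contra hno
    push Not at hno
    apply hA
    rw [← hT]
    refine ⟨hT2, fun t ht => mem_centralizer_singleton_iff.mpr (hTx t ht), fun R' hR hRx hTR => ?_⟩
    by_contra hne
    have hnle : ¬ R' ≤ T := fun h => hne (le_antisymm h hTR)
    obtain ⟨y, hy, hyT, h1, -⟩ := exists_norm hR hTR hnle
    have hyx := mem_centralizer_singleton_iff.mp (hRx hy)
    have hya := hno y hyx h1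
    have hyac : y * (a : G) = a * y := by
      calc y * (a : G) = y * a * y⁻¹ * y := by group
        _ = a * y := by rw [hya]
    -- `⟨T, y⟩` is a 2-group in `C(a, x)`
    let R0 : Subgroup G := R' ⊓ (centralizer ({(a : G)} : Set G))
    have h3 := tx.max R0 (hR.to_le inf_le_left) (fun r hr => ⟨hr.2, hRx hr.1⟩) (by
      rw [← hT]
      intro t ht
      exact ⟨hTR ht, mem_centralizer_singleton_iff.mpr (haG t (hTS ht))⟩)
    apply hyT
    rw [hT, ← h3]
    exact ⟨hy, mem_centralizer_singleton_iff.mpr hyac⟩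
  -- `z = u a u⁻¹`
  have haT : (a : G) ∈ T := hTm a (C.ac x).symm
  obtain ⟨z, hz⟩ : ∃ z : ↥S, (z : G) = u * a * u⁻¹ := ⟨⟨_, hTS (huT a haT)⟩, rfl⟩
  have haa : (a : G) * a = 1 := congrArg Subtype.val C.aa
  have hxx : (x : G) * x = 1 := congrArg Subtype.val C.xx
  have hzz : z * z = 1 := Subtype.ext (by
    change (z : G) * z = 1
    rw [hz]
    calc u * a * u⁻¹ * (u * a * u⁻¹) = u * (a * a) * u⁻¹ := by group
      _ = 1 := by rw [haa]; group)
  have hzx : z * x = x * z := Subtype.ext (by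
    change (z : G) * x = x * z
    rw [hz]
    have h1 : u⁻¹ * x = x * u⁻¹ := by
      calc u⁻¹ * x = u⁻¹ * (x * u) * u⁻¹ := by group
        _ = u⁻¹ * (u * x) * u⁻¹ := by rw [hux]
        _ = _ := by group
    calc u * a * u⁻¹ * x = u * a * (u⁻¹ * x) := by group
      _ = u * (a * x) * u⁻¹ := by rw [h1]; group
      _ = u * (x * a) * u⁻¹ := by rw [haG x x.2]
      _ = (u * x) * a * u⁻¹ := by group
      _ = _ := by rw [hux]; group)
  -- `u⁻¹` normalizes `T` too
  have huT' : ∀ t ∈ T, u⁻¹ * t * u ∈ T := by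
    have hle : cj u T ≤ T := by
      intro t ht
      rw [mem_cj] at ht
      have := huT _ ht
      have e : u * (u⁻¹ * t * u) * u⁻¹ = t := by group
      rwa [e] at this
    have heq : cj u T = T := Subgroup.eq_of_le_of_card_ge hle (by rw [card_cj])
    intro t ht
    rw [← heq, mem_cj] at ht
    exact ht
  have hzT : ∀ s : ↥S, s * x = x * s → s * z = z * s := by
    intro s hs
    have h1 := huT' s (hTm s hs)
    have h2 := haG _ (hTS h1)
    apply Subtype.ext
    change (s : G) * z = z * s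
    rw [hz]
    calc (s : G) * (u * a * u⁻¹) = u * (u⁻¹ * s * u * a) * u⁻¹ := by group
      _ = u * (a * (u⁻¹ * s * u)) * u⁻¹ := by rw [h2]
      _ = _ := by group
  obtain ⟨z0, hz0, hzz0⟩ := C.cx_cases hzz hzx (fun p _ hp => (hzT p hp).symm)
  have hconj : IsConj (a : G) (z : G) := by
    rw [isConj_iff]; exact ⟨u, hz.symm⟩
  have hza : z ≠ a := fun h => hua (by rw [← hz, h])
  have hz0c : ∀ s, s * z0 = z0 * s := by
    intro s
    rcases hz0 with h | h | h | h <;> rw [h]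
    · rw [mul_one, one_mul]
    · exact C.ac s
    · exact C.bc s
    · rw [← mul_assoc, C.bc, mul_assoc, C.ac, mul_assoc]
  have hzx0 : z = x * z0 := by
    rcases hzz0 with h | h
    · exfalso
      apply hza
      rw [h] at hconj ⊢
      exact (C.eq_of_conj C.aa C.ac hz0c hconj).symm
    · exact h
  -- `C_Q(x) = {1, a}`
  have hnsq : ∀ v : ↥S, ψ v = 1 → v * x = x * v → v * v ≠ a := by
    intro v _ hvx hva
    have h1 := huT v (hTm v hvx)
    have h2 : (⟨u * v * u⁻¹, hTS h1⟩ : ↥S) * ⟨u * v * u⁻¹, hTS h1⟩ = z := Subtype.ext (by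
      change (u * v * u⁻¹) * (u * v * u⁻¹) = (z : G)
      have h3 : (v : G) * v = a := congrArg Subtype.val hva
      rw [hz, ← h3]; group)
    have h3 := sq_mem_U (ψ ⟨u * v * u⁻¹, hTS h1⟩)
    rw [← map_mul, h2, hzx0, map_mul, C.hx] at h3
    have h4 : ψ z0 ∈ U := by
      rcases hz0 with h | h | h | h <;> rw [h]
      · rw [map_one]; exact U.one_mem
      · rw [C.ha]; exact U.one_mem
      · rw [C.hb]; exact pb_mem
      · rw [map_mul, C.ha, mul_one, C.hb]; exact pb_mem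
    have h5 := U.mul_mem h3 (U.inv_mem h4)
    rw [mul_inv_cancel_right] at h5
    exact px_not_mem h5
  have hfix : ∀ r : ↥S, ψ r = 1 → r * x = x * r → r = 1 ∨ r = a := by
    intro r hr hrx
    by_cases hr1 : r = 1
    · exact Or.inl hr1
    right
    by_cases hrr : r * r = 1
    · exact C.uniq r hr hrx hrr hr1
    exfalso
    obtain ⟨m, hm⟩ := C.pg r
    obtain ⟨k, hk1, hk2⟩ : ∃ k, r ^ (2 ^ k) ≠ 1 ∧ r ^ (2 ^ (k + 1)) = 1 := by
      by_contra hno
      push Not at hno
      have h1 : ∀ k, r ^ (2 ^ k) ≠ 1 := by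
        intro k
        induction k with
        | zero => rw [pow_zero, pow_one]; exact hr1
        | succ k ih => exact hno k ih
      exact h1 m hm
    have hkpos : k ≠ 0 := by
      rintro rfl
      rw [zero_add, pow_one, pow_two] at hk2
      exact hrr hk2
    obtain ⟨j, rfl⟩ := Nat.exists_eq_succ_of_ne_zero hkpos
    have hcomm : Commute (r ^ (2 ^ (j + 1))) x := Commute.pow_left hrx _
    have h2 : r ^ (2 ^ (j + 1)) = a := by
      apply C.uniq _ (by rw [map_pow, hr, one_pow]) hcomm.eq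
      · rw [← pow_two, ← pow_mul, ← pow_succ]; exact hk2
      · exact hk1
    have hcomm' : Commute (r ^ (2 ^ j)) x := Commute.pow_left hrx _
    apply hnsq (r ^ (2 ^ j)) (by rw [map_pow, hr, one_pow]) hcomm'.eq
    rw [← pow_two, ← pow_mul, ← pow_succ]; exact h2
  -- `a ~ x'`, `x' ∈ {x, x a}`
  obtain ⟨p, hp, hpx⟩ := C.exists_p
  have hpa := C.ac p
  obtain ⟨x', hx', hax'⟩ : ∃ x' : ↥S, (x' = x ∨ x' = x * a) ∧ IsConj (a : G) (x' : G) := by
    have hcp : ∀ y y' : ↥S, p * y * p⁻¹ = y' → IsConj (y' : G) (y : G) := by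
      intro y y' h
      rw [isConj_comm, isConj_iff]
      exact ⟨p, congrArg Subtype.val h⟩
    have hpxa : p * (x * a) * p⁻¹ = x * (b * a) := by
      calc p * (x * a) * p⁻¹ = (p * x * p⁻¹) * (p * a * p⁻¹) := by group
        _ = (x * b) * a := by rw [hpx, hpa, mul_inv_cancel_right]
        _ = _ := by rw [mul_assoc]
    rcases hz0 with h | h | h | h
    · rw [h, mul_one] at hzx0
      exact ⟨x, Or.inl rfl, hzx0 ▸ hconj⟩
    · rw [h] at hzx0
      exact ⟨x * a, Or.inr rfl, hzx0 ▸ hconj⟩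
    · rw [h, ← hpx] at hzx0
      exact ⟨x, Or.inl rfl, hconj.trans (hcp x z hzx0.symm)⟩
    · rw [h, ← hpxa] at hzx0
      exact ⟨x * a, Or.inr rfl, hconj.trans (hcp (x * a) z hzx0.symm)⟩
  have hxax : x * a = a * x := C.ac x
  have hxaa : (x * a) * (x * a) = 1 := by
    calc (x * a) * (x * a) = x * (a * x) * a := by group
      _ = x * (x * a) * a := by rw [hxax]
      _ = (x * x) * (a * a) := by group
      _ = 1 := by rw [C.xx, C.aa, one_mul]
  have hψx' : ψ x' = px := by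
    rcases hx' with h | h <;> rw [h]
    · exact C.hx
    · rw [map_mul, C.hx, C.ha, mul_one]
  have hcx' : ∀ s : ↥S, s * x = x * s → s * x' = x' * s := by
    intro s hs
    rcases hx' with h | h <;> rw [h]
    · exact hs
    · rw [← mul_assoc, hs, mul_assoc, C.ac, mul_assoc]
  have hpx' : p * x' * p⁻¹ = x' * b := by
    rcases hx' with h | h <;> rw [h]
    · exact hpx
    · calc p * (x * a) * p⁻¹ = (p * x * p⁻¹) * (p * a * p⁻¹) := by group
        _ = (x * b) * a := by rw [hpx, hpa, mul_inv_cancel_right]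
        _ = x * (b * a) := by group
        _ = x * (a * b) := by rw [C.bc a]
        _ = _ := by group
  -- `h x' h⁻¹ = a`, `h T h⁻¹ ≤ S`
  have hSa : IsSyl (centralizer ({(a : G)} : Set G)) S := by
    refine ⟨C.pg, fun s hs => mem_centralizer_singleton_iff.mpr (haG s hs), fun R' hR _ hSR => ?_⟩
    have : Fact (Nat.Prime 2) := ⟨Nat.prime_two⟩
    exact (C.pg.toSylow C.syl).is_maximal' hR hSR
  obtain ⟨h, hhx, hhT⟩ : ∃ h : G, h * x' * h⁻¹ = a ∧ ∀ t ∈ T, h * t * h⁻¹ ∈ S := by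
    obtain ⟨h0, hh0⟩ := isConj_iff.mp (isConj_comm.mp hax')
    have h1 : IsPGroup 2 ↥(cj h0 T) := isPGroup_cj hT2
    have h2 : cj h0 T ≤ centralizer ({(a : G)} : Set G) := by
      intro t ht
      rw [mem_cj] at ht
      have h3 : h0⁻¹ * t * h0 * (x' : G) = x' * (h0⁻¹ * t * h0) := by
        have h4 := hTS ht
        have h5 := hcx' ⟨_, h4⟩ (Subtype.ext (hTx _ ht))
        exact congrArg Subtype.val h5
      rw [mem_centralizer_singleton_iff, ← hh0]
      calc t * (h0 * x' * h0⁻¹) = h0 * (h0⁻¹ * t * h0 * x') * h0⁻¹ := by group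
        _ = h0 * (x' * (h0⁻¹ * t * h0)) * h0⁻¹ := by rw [h3]
        _ = _ := by group
    obtain ⟨c, hc, hc2⟩ := hSa.conj h1 h2
    have hca := mem_centralizer_singleton_iff.mp hc
    refine ⟨c⁻¹ * h0, ?_, fun t ht => ?_⟩
    · calc c⁻¹ * h0 * x' * (c⁻¹ * h0)⁻¹ = c⁻¹ * (h0 * x' * h0⁻¹) * c := by group
        _ = c⁻¹ * (a * c) := by rw [hh0]; group
        _ = c⁻¹ * (c * a) := by rw [hca]
        _ = a := by group
    · have h3 : h0 * t * h0⁻¹ ∈ cj h0 T := by
        rw [mem_cj]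
        have : h0⁻¹ * (h0 * t * h0⁻¹) * h0 = t := by group
        rwa [this]
      have h4 := hc2 h3
      rw [mem_cj] at h4
      have e : c⁻¹ * h0 * t * (c⁻¹ * h0)⁻¹ = c⁻¹ * (h0 * t * h0⁻¹) * c := by group
      rwa [e]
  -- `β = h b h⁻¹`
  obtain ⟨w1, hw1, w2, hw2, hw1x, hw2x, -, -, e1, e2, e3⟩ := C.exists_w
  obtain ⟨v1, hv1⟩ : ∃ v1 : ↥S, (v1 : G) = h * w1 * h⁻¹ := ⟨⟨_, hhT w1 (hTm w1 hw1x)⟩, rfl⟩
  obtain ⟨v2, hv2⟩ : ∃ v2 : ↥S, (v2 : G) = h * w2 * h⁻¹ := ⟨⟨_, hhT w2 (hTm w2 hw2x)⟩, rfl⟩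
  obtain ⟨β, hβ⟩ : ∃ β : ↥S, (β : G) = h * b * h⁻¹ := ⟨⟨_, hhT b (hTm b (C.bc x).symm)⟩, rfl⟩
  have f3 : v1 * v2 * v1⁻¹ * v2⁻¹ = β := Subtype.ext (by
    change (v1 : G) * v2 * (v1 : G)⁻¹ * (v2 : G)⁻¹ = β
    rw [hv1, hv2, hβ, ← e3]
    change _ = h * (w1 * w2 * (w1 : G)⁻¹ * (w2 : G)⁻¹) * h⁻¹
    group)
  have hψβ : ψ β ∈ U := by
    rw [← f3, map_mul, map_mul, map_mul, map_inv, map_inv]
    exact comm_mem_U _ _
  have hββ : β * β = 1 := Subtype.ext (by
    have hbb : (b : G) * b = 1 := congrArg Subtype.val C.bb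
    change (β : G) * β = 1
    rw [hβ]
    calc h * b * h⁻¹ * (h * b * h⁻¹) = h * (b * b) * h⁻¹ := by group
      _ = 1 := by rw [hbb]; group)
  have hbβ : IsConj (b : G) (β : G) := by
    rw [isConj_iff]; exact ⟨h, hβ.symm⟩
  -- `a β ~ a`
  have haβ : IsConj (a : G) ((β * a : ↥S) : G) := by
    have h1 : ((β * a : ↥S) : G) = h * ((x' * b : ↥S) : G) * h⁻¹ := by
      change (β : G) * a = h * ((x' : G) * b) * h⁻¹
      have h2 : (β : G) * a = a * β := congrArg Subtype.val (C.ac β)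
      rw [h2, hβ]
      conv_lhs => rw [← hhx]
      group
    have h2 : IsConj ((x' : ↥S) : G) ((x' * b : ↥S) : G) := by
      rw [isConj_iff]; exact ⟨p, congrArg Subtype.val hpx'⟩
    refine hax'.trans (h2.trans ?_)
    rw [isConj_iff]; exact ⟨h, h1.symm⟩
  obtain ⟨p', hp', q', hq', hpq⟩ := C.mod.split hψβ
  have hββ' := hββ
  rw [hpq] at hββ'
  obtain ⟨hpp, hqq⟩ := C.mod.sq_split hp' hq' hββ'
  have hb1 := C.b1
  have hbb := C.bb
  have hbac : ∀ s, s * (b * a) = (b * a) * s := fun s => by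
    rw [← mul_assoc, C.bc, mul_assoc, C.ac, mul_assoc]
  by_cases hq1 : q' = 1
  · -- `β ∈ P`
    rw [hq1, mul_one] at hpq
    have hp1 : p' ≠ 1 := by
      rintro rfl
      rw [hpq] at hbβ
      exact hb1 (C.eq_of_conj hbb C.bc (fun s => by rw [mul_one, one_mul]) hbβ)
    have h1 := hL p' hp' b C.hbP hpp hp1 hbb hb1 a C.ha C.aa
    rw [← hpq] at h1
    have h2 := C.eq_of_conj C.aa C.ac hbac (haβ.trans h1)
    exact hb1 (mul_eq_right.mp h2.symm)
  by_cases hqa : q' = a
  · rw [hqa] at hpq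
    have h0 : β * a = p' := by rw [hpq, mul_assoc, C.aa, mul_one]
    rw [h0] at haβ
    have hp1 : p' ≠ 1 := by
      rintro rfl
      exact C.a1 (C.eq_of_conj C.aa C.ac (fun s => by rw [mul_one, one_mul]) haβ)
    have h1 := hL p' hp' b C.hbP hpp hp1 hbb hb1 1 (map_one ψ) (one_mul 1)
    rw [mul_one, mul_one] at h1
    exact C.ab_ne (C.eq_of_conj C.aa C.ac C.bc (haβ.trans h1))
  -- Suzuki
  obtain ⟨n, hn⟩ := suz C.pg ψ.ker inferInstance C.xx
    (fun h => px_not_mem (by rw [← C.hx, show ψ x = 1 from h]; exact U.one_mem))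
    (show a ∈ ψ.ker from C.ha) C.aa C.a1 C.ac (fun r hr hrx => hfix r hr hrx) (show q' ∈ ψ.ker from hq')
    hqq hq1 hqa
  have hψqa : ψ (q' * a) = 1 := by rw [map_mul, hq', C.ha, one_mul]
  have hqaqa : (q' * a) * (q' * a) = 1 := by
    calc (q' * a) * (q' * a) = q' * (a * q') * a := by group
      _ = q' * (q' * a) * a := by rw [C.ac q']
      _ = (q' * q') * (a * a) := by group
      _ = 1 := by rw [hqq, C.aa, one_mul]
  -- `β ~ β a`
  have hββa : IsConj (β : G) ((β * a : ↥S) : G) := by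
    have h1 : n * β * n⁻¹ = (n * p' * n⁻¹) * (q' * a) := by
      rw [hpq, ← hn]; group
    have h2 : IsConj (β : G) (((n * p' * n⁻¹) * (q' * a) : ↥S) : G) := by
      rw [isConj_iff]; exact ⟨n, congrArg Subtype.val h1⟩
    have h3 : β * a = p' * (q' * a) := by rw [hpq, mul_assoc]
    rw [h3]
    refine h2.trans ?_
    by_cases hp1 : p' = 1
    · rw [hp1, mul_one, mul_inv_cancel]
    · exact hL _ (C.mod.norm n p' hp') p' hp' (by
        calc n * p' * n⁻¹ * (n * p' * n⁻¹) = n * (p' * p') * n⁻¹ := by group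
          _ = 1 := by rw [hpp]; group) (fun h => hp1 (by
        calc p' = n⁻¹ * (n * p' * n⁻¹) * n := by group
          _ = 1 := by rw [h]; group)) hpp hp1 (q' * a) hψqa hqaqa
  have h4 : IsConj (b : G) (a : G) := hbβ.trans (hββa.trans (isConj_comm.mp haβ))
  exact C.ab_ne (C.eq_of_conj hbb C.bc C.ac h4).symm

/-- **Case T1**: `x` is not in the kernel of all homomorphisms `G → {1, -1}`. -/
theorem Ctx.main (C : Ctx S ψ P x a b)
    (tx : IsSyl (centralizer ({(a : G)} : Set G) ⊓ centralizer ({(x : G)} : Set G))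
      (S ⊓ centralizer ({(x : G)} : Set G)))
    (hL : ∀ p ∈ P, ∀ p' ∈ P, p * p = 1 → p ≠ 1 → p' * p' = 1 → p' ≠ 1 → ∀ q : ↥S, ψ q = 1 → q * q = 1 →
      IsConj (((p * q : ↥S)) : G) ((p' * q : ↥S) : G)) (hf : ∀ f : G →* ℤˣ, f x = 1) : False := by
  by_cases hA : IsSyl (centralizer ({(x : G)} : Set G)) (S ⊓ centralizer ({(x : G)} : Set G))
  · exact C.caseA hA hf
  · exact C.caseB tx hA hL

end

end Cfsg.Agent.UGT.L34
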