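import Cfsg.Agent.SporadicA.FieldFour
import Cfsg.Agent.StdL3.Heis

/-!
# A Sylow 2-subgroup of `Aut L₃(4)`

`E` = `Heis F4` extended by the field automorphism `φ` and the graph automorphism `γ` (order 256). `px = φγ` is the
unitary polarity.
-/

set_option autoImplicit false

open Cfsg.Agent.SporadicA.FieldFour
open Cfsg.Agent.StdL3.Heis

namespace Cfsg.Agent.UGT.L34

/-- the Sylow 2-subgroup of `L₃(4)` -/
abbrev H : Type := Heis F4

theorem fadd_self (u : F4) : u + u = 0 := by revert u; decide

theorem fsq_add (u v : F4) : (u + v) * (u + v) = u * u + v * v := by revert u v; decide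

theorem fsq_sq (u : F4) : (u * u) * (u * u) = u := by revert u; decide

theorem add_add_cancel' (u v : F4) : u + v + v = u := by rw [add_assoc, fadd_self, add_zero]

/-- field automorphism -/
def ph (h : H) : H := ⟨h.a * h.a, h.b * h.b, h.c * h.c⟩

/-- graph automorphism -/
def gr (h : H) : H := ⟨h.b, h.a, h.c + h.a * h.b⟩

theorem ph_mul (u v : H) : ph (u * v) = ph u * ph v := by
  apply Heis.ext
  · exact fsq_add _ _
  · exact fsq_add _ _
  · change (u.c + v.c + u.a * v.b) * (u.c + v.c + u.a * v.b) = u.c * u.c + v.c * v.c + u.a * u.a * (v.b * v.b)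
    rw [fsq_add, fsq_add]; ring

theorem gr_mul (u v : H) : gr (u * v) = gr u * gr v := by
  apply Heis.ext
  · rfl
  · rfl
  · change u.c + v.c + u.a * v.b + (u.a + v.a) * (u.b + v.b) = u.c + u.a * u.b + (v.c + v.a * v.b) + u.b * v.a
    have h := fadd_self (u.a * v.b)
    linear_combination h

theorem ph_ph (u : H) : ph (ph u) = u := Heis.ext (fsq_sq _) (fsq_sq _) (fsq_sq _)

theorem gr_gr (u : H) : gr (gr u) = u := by
  apply Heis.ext
  · rfl
  · rfl
  · change u.c + u.a * u.b + u.b * u.a = u.c
    rw [mul_comm u.b, add_add_cancel']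

theorem ph_gr (u : H) : ph (gr u) = gr (ph u) := by
  apply Heis.ext
  · rfl
  · rfl
  · change (u.c + u.a * u.b) * (u.c + u.a * u.b) = u.c * u.c + u.a * u.a * (u.b * u.b)
    rw [fsq_add]; ring

/-- the action of the four-group `⟨φ, γ⟩` -/
def act (f g : Bool) (h : H) : H := cond f (ph (cond g (gr h) h)) (cond g (gr h) h)

theorem act_mul (f g : Bool) (u v : H) : act f g (u * v) = act f g u * act f g v := by
  cases f <;> cases g <;> simp [act, ph_mul, gr_mul]

theorem act_act (f g f' g' : Bool) (u : H) : act f g (act f' g' u) = act (xor f f') (xor g g') u := by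
  cases f <;> cases g <;> cases f' <;> cases g' <;> simp [act, ph_ph, gr_gr, ← ph_gr]

theorem act_ff (u : H) : act false false u = u := rfl

/-- The Sylow 2-subgroup of `Aut L₃(4)`. -/
@[ext]
structure E : Type where
  h : H
  f : Bool
  g : Bool

namespace E

instance instMul : Mul E := ⟨fun s t => ⟨s.h * act s.f s.g t.h, xor s.f t.f, xor s.g t.g⟩⟩
instance instOne : One E := ⟨⟨1, false, false⟩⟩
instance instInv : Inv E := ⟨fun s => ⟨act s.f s.g s.h⁻¹, s.f, s.g⟩⟩

theorem mul_def (s t : E) : s * t = ⟨s.h * act s.f s.g t.h, xor s.f t.f, xor s.g t.g⟩ := rfl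

theorem one_def : (1 : E) = ⟨1, false, false⟩ := rfl

theorem act_one (f g : Bool) : act f g 1 = 1 := by
  have h := act_mul f g 1 1
  rw [mul_one] at h
  exact (mul_eq_left.mp h.symm)

theorem act_inv (f g : Bool) (u : H) : act f g u⁻¹ = (act f g u)⁻¹ := by
  rw [eq_inv_iff_mul_eq_one, ← act_mul, inv_mul_cancel, act_one]

instance instGroup : Group E :=
  Group.ofLeftAxioms
    (by
      intro x y z
      simp only [mul_def]
      ext1
      · rw [act_mul, act_act, mul_assoc]
      · exact Bool.xor_assoc _ _ _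
      · exact Bool.xor_assoc _ _ _)
    (by
      intro x
      simp only [mul_def, one_def]
      ext1
      · rw [act_ff, one_mul]
      · exact Bool.false_xor _
      · exact Bool.false_xor _)
    (by
      intro x
      change (⟨act x.f x.g x.h⁻¹ * act x.f x.g x.h, xor x.f x.f, xor x.g x.g⟩ : E) = ⟨1, false, false⟩
      ext1
      · change act x.f x.g x.h⁻¹ * act x.f x.g x.h = 1
        rw [← act_mul, inv_mul_cancel, act_one]
      · exact Bool.xor_self _
      · exact Bool.xor_self _)

end E

end Cfsg.Agent.UGT.L34
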