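import Cfsg.Agent.UGT.L34.ToSit
import Cfsg.Agent.UGT.LTF.Final
import Cfsg.Agent.UGT.FL34.KF34
import Cfsg.Agent.UGT.LTF.KF2
import Cfsg.Agent.UGT.LTF.KFA
import Cfsg.Agent.UGT.Nodes

/-!
# Case T1 is impossible

`(x, a, L)` a triple of type `L₃(4)` in a minimal counterexample, `a` the only involution of `C_K(x)`,
`K = C(a) ∩ C(L / O(L))`, `S ∈ Syl₂(C(a) ∩ N(L))`, `C_S(x) ∈ Syl₂(C(a, x) ∩ N(L))`: `S` is not a Sylow 2-subgroup
of `G`.
-/

set_option autoImplicit false

open Cfsg Subgroup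
open Cfsg.Agent.SignalizersComponents Cfsg.Agent.Lib
open Cfsg.Agent.SignalizersComponents.IntrinsicBasic
open Cfsg.Agent.SignalizersComponents.IntrinsicIntr
open Cfsg.Agent.SignalizersComponents.PLayerAut
open Cfsg.Agent.Intrinsic.Basic Cfsg.Agent.Intrinsic.Cen Cfsg.Agent.Intrinsic.Diag
open Cfsg.Agent.McLLyComp.Act
open Cfsg.Agent.UGT.Triple Cfsg.Agent.UGT.TriBase
open Cfsg.Agent.UGT.Iface (Bar IsL2 IsL34 IsAltOdd MinCex)
open Cfsg.Agent.UGT.LTF.Defs (KF34 KF2 KFA FT OddC Sit)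

namespace Cfsg.Agent.UGT.LSup

universe u

local notation "Fs" => generalizedFittingSubgroup

variable {G : Type u} [Group G] [Finite G] {x a : G} {L S : Subgroup G}

/-- homomorphisms to `{1, -1}` are trivial on `X` -/
theorem hom_trivial (h : MinCex G) {y : G} (hy : y ∈ Fs G) (f : G →* ℤˣ) : f y = 1 := by
  have hs := h.simple
  have h1 : (f.comp (Fs G).subtype).ker = ⊤ := by
    rcases hs.eq_bot_or_eq_top_of_normal (f.comp (Fs G).subtype).ker inferInstance with h2 | h2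
    · exfalso
      apply h.nonab
      refine ⟨⟨fun u v => ?_⟩⟩
      have hinj := (MonoidHom.ker_eq_bot_iff _).mp h2
      apply hinj
      rw [map_mul, map_mul, mul_comm]
    · exact h2
  have h2 : (⟨y, hy⟩ : ↥(Fs G)) ∈ (f.comp (Fs G).subtype).ker := by rw [h1]; exact mem_top _
  exact h2

/-- choice of `S` -/
theorem exists_S (T : IsTriple x a L) : ∃ S : Subgroup G,
    IsSyl (centralizer ({a} : Set G) ⊓ normalizer (L : Set G)) S ∧ x ∈ S ∧
    IsSyl (centralizer ({a} : Set G) ⊓ normalizer (L : Set G) ⊓ centralizer ({x} : Set G))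
      (S ⊓ centralizer ({x} : Set G)) := by
  have h1 : IsPGroup 2 (zpowers x) := by
    apply IsPGroup.of_card (n := 1)
    rw [Nat.card_zpowers, T.invx, pow_one]
  have h2 : zpowers x ≤ centralizer ({a} : Set G) ⊓ normalizer (L : Set G) ⊓ centralizer ({x} : Set G) := by
    rw [zpowers_le]
    exact ⟨⟨mem_centralizer_singleton_iff.mpr T.comm.symm, T.x_mem⟩, mem_centralizer_singleton_iff.mpr rfl⟩
  obtain ⟨R, hR, hxR⟩ := exists_isSyl h1 h2
  obtain ⟨S, hS, hRS⟩ := exists_isSyl hR.two (hR.le.trans inf_le_left)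
  have h3 : S ⊓ centralizer ({x} : Set G) = R :=
    hR.max _ (hS.two.to_le inf_le_left) (inf_le_inf_right _ hS.le)
      (le_inf hRS (hR.le.trans inf_le_right))
  refine ⟨S, hS, hRS (hxR (mem_zpowers x)), ?_⟩
  rw [h3]; exact hR

theorem kf34 : KF34.{u} := FL34.KF.kf34

/-- **Case T1 is impossible.** -/
theorem T1.false (hG : MinCex G)
    (typ : Nodes.Types G (fun _ J => IsL2 (Bar J) ∨ IsAltOdd (Bar J) ∨ IsL34 (Bar J)))
    (h : T1 x a L S) : False := by
  rcases dichotomy34 kf34 hG h.T h.l34 with h1 | ⟨h1, h2, h3⟩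
  · exact h.false_of_hom kf34 (Or.inl fun f => hom_trivial hG (h1 ▸ mem_top x) f)
  · by_cases haX : a ∈ Fs G
    · obtain ⟨b, hs⟩ := h.exists_sit kf34 Trich.normal_fs hG.simple h1 h2 h3
        (fun y c J _ _ T => typ y c J T) haX
      exact LTF.Final.false_of_sit kf34 LTF.KF2.kf2 LTF.KFA.kfa hs
    · have h4 : x * a ∈ Fs G := by
        rcases h2 a with h5 | h5
        · exact absurd h5 haX
        · exact h5
      exact h.false_of_hom kf34 (Or.inr fun f => hom_trivial hG h4 f)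

end Cfsg.Agent.UGT.LSup
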