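import Cfsg.Agent.UGT.L34.Dich
import Cfsg.Agent.UGT.L34T2.FrMod
import Cfsg.Agent.UGT.LTF.Defs

/-!
# The situation `Sit` from `T1`: `x ∉ X`, `a ∈ X`
-/

set_option autoImplicit false
set_option linter.unusedVariables false

open Cfsg Subgroup
open Cfsg.Agent.SignalizersComponents Cfsg.Agent.Lib
open Cfsg.Agent.SignalizersComponents.IntrinsicBasic
open Cfsg.Agent.SignalizersComponents.IntrinsicIntr
open Cfsg.Agent.SignalizersComponents.PLayerAut
open Cfsg.Agent.Intrinsic.Basic Cfsg.Agent.Intrinsic.Cen Cfsg.Agent.Intrinsic.Diag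
open Cfsg.Agent.McLLyComp.Act
open Cfsg.Agent.UGT.Triple Cfsg.Agent.UGT.TriBase
open Cfsg.Agent.UGT.Iface (Bar IsL2 IsL34 IsAltOdd)
open Cfsg.Agent.UGT.LTF.Defs (KF34 FT OddC Sit)
open Cfsg.Agent.UGT.L34 hiding act

namespace Cfsg.Agent.UGT.LSup

universe u

variable {G : Type u} [Group G] [Finite G] {x a : G} {L S : Subgroup G}

/-- `a` is the only involution of `C_K(x)` -/
theorem T1.uniq_all (h : T1 x a L S) {k : G} (hka : k * a = a * k) (hkF : Fixes k L) (hkk : k * k = 1)
    (hk1 : k ≠ 1) (hkx : k * x = x * k) : k = a := by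
  have hk2 : orderOf k = 2 := orderOf_eq_prime (by rw [pow_two, hkk]) hk1
  have h1 : IsPGroup 2 (zpowers k) := by
    apply IsPGroup.of_card (n := 1)
    rw [Nat.card_zpowers, hk2, pow_one]
  obtain ⟨g, hg, hsg⟩ := h.sx.conj h1 (by
    rw [zpowers_le]
    exact ⟨⟨mem_centralizer_singleton_iff.mpr hka, hkF.1⟩, mem_centralizer_singleton_iff.mpr hkx⟩)
  have h2 := hsg (mem_zpowers k)
  rw [mem_cj] at h2
  have hkF' : Fixes (g⁻¹ * k * g) L := by
    have := fixes_conj hkF (inv_mem hg.1.2)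
    rwa [inv_inv] at this
  have h3 := h.uniq (g⁻¹ * k * g) h2.1 hkF' (mem_centralizer_singleton_iff.mp h2.2) (by
    calc g⁻¹ * k * g * (g⁻¹ * k * g) = g⁻¹ * (k * k) * g := by group
      _ = 1 := by rw [hkk]; group) (by
    intro h4
    apply hk1
    calc k = g * (g⁻¹ * k * g) * g⁻¹ := by group
      _ = 1 := by rw [h4]; group)
  have hga := mem_centralizer_singleton_iff.mp hg.1.1
  calc k = g * (g⁻¹ * k * g) * g⁻¹ := by group
    _ = g * a * g⁻¹ := by rw [h3]
    _ = a := by rw [hga, mul_inv_cancel_right]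

/-- **The situation `Sit`.** -/
theorem T1.exists_sit (kf : KF34.{u}) (h : T1 x a L S) {X : Subgroup G} (Xn : X.Normal)
    (sim : IsSimpleGroup ↥X) (xX : x ∉ X) (two : ∀ g, g ∈ X ∨ x * g ∈ X)
    (cf : ∀ u ∈ X, orderOf u = 2 → core (centralizer ({u} : Set G)) = ⊥)
    (typ : ∀ y c J, y ∉ X → c ∈ X → IsTriple y c J → IsL2 (Bar J) ∨ IsAltOdd (Bar J) ∨ IsL34 (Bar J))
    (aX : a ∈ X) : ∃ b, Sit X x a b L S := by
  obtain ⟨ψ, b, C, h1, h2⟩ := h.exists_ctx kf
  have haa := sq_of_order h.T.inva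
  have hxx := sq_of_order h.T.invx
  have ha1 := ne_one_of_order h.T.inva
  -- `G / X` is abelian
  have hLX : L ≤ X := by
    have hcomm : ∀ g k : G, g * k * g⁻¹ * k⁻¹ ∈ X := by
      intro g k
      have hxi : x⁻¹ = x := inv_eq_of_mul_eq_one_left hxx
      have hq : ∀ g : G, (QuotientGroup.mk' X g = 1) ∨ (QuotientGroup.mk' X g = QuotientGroup.mk' X x) := by
        intro g
        rcases two g with hg | hg
        · left; exact (QuotientGroup.eq_one_iff g).mpr hg
        · right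
          have h3 : QuotientGroup.mk' X (x * g) = 1 := (QuotientGroup.eq_one_iff _).mpr hg
          rw [map_mul] at h3
          have h4 : QuotientGroup.mk' X x * QuotientGroup.mk' X x = 1 := by rw [← map_mul, hxx, map_one]
          exact (mul_left_cancel (h3.trans h4.symm))
      have h3 : QuotientGroup.mk' X (g * k * g⁻¹ * k⁻¹) = 1 := by
        rw [map_mul, map_mul, map_mul, map_inv, map_inv]
        rcases hq g with h4 | h4 <;> rcases hq k with h5 | h5 <;> rw [h4, h5] <;> group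
      exact (QuotientGroup.eq_one_iff _).mp h3
    rw [← h.T.comp.perfect, Subgroup.commutator_le]
    intro g _ k _
    rw [commutatorElement_def]
    exact hcomm g k
  have hbL : (b : G) ∈ L := C.hbP
  have hbX : (b : G) ∈ X := hLX hbL
  have hbb : (b : G) * b = 1 := congrArg Subtype.val C.bb
  have hb1 : (b : G) ≠ 1 := fun h3 => C.b1 (Subtype.ext h3)
  have hab : a * (b : G) = b * a := congrArg Subtype.val (C.ac b).symm
  have hba' : b * (⟨a, h.aS⟩ : ↥S) ≠ 1 := C.ba_ne_one
  -- `Ω₁ Z(T) ∩ X`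
  have zt : ∀ z ∈ S, z * x = x * z → z * z = 1 → z ∈ X → (∀ s ∈ S, s * x = x * s → s * z = z * s) →
      z = 1 ∨ z = a ∨ z = b ∨ z = a * b := by
    intro z hz hzx hzz hzX hc
    obtain ⟨z0, hz0, hz1⟩ := C.cx_cases (z := ⟨z, hz⟩) (Subtype.ext hzz) (Subtype.ext hzx) (by
      intro p hp hpx
      exact Subtype.ext (hc p p.2 (congrArg Subtype.val hpx)).symm)
    have hz0X : (z0 : G) ∈ X := by
      rcases hz0 with h3 | h3 | h3 | h3 <;> rw [h3]
      · exact one_mem X
      · exact aX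
      · exact hbX
      · exact mul_mem hbX aX
    rcases hz1 with h3 | h3
    · have h4 : z = (z0 : G) := congrArg Subtype.val h3
      rcases hz0 with h5 | h5 | h5 | h5
      · left; rw [h4, h5]; rfl
      · right; left; rw [h4, h5]
      · right; right; left; rw [h4, h5]
      · right; right; right; rw [h4, h5, hab]; rfl
    · exfalso
      have h4 : z = x * (z0 : G) := congrArg Subtype.val h3
      apply xX
      have h5 : x = z * (z0 : G)⁻¹ := by rw [h4]; group
      rw [h5]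
      exact mul_mem hzX (inv_mem hz0X)
  have hbac : ∀ s : ↥S, s * (b * ⟨a, h.aS⟩) = (b * ⟨a, h.aS⟩) * s := fun s => by
    rw [← mul_assoc, C.bc, mul_assoc, C.ac, mul_assoc]
  have hbaba : (b * (⟨a, h.aS⟩ : ↥S)) * (b * ⟨a, h.aS⟩) = 1 := by
    calc (b * (⟨a, h.aS⟩ : ↥S)) * (b * ⟨a, h.aS⟩) = b * ((⟨a, h.aS⟩ : ↥S) * b) * ⟨a, h.aS⟩ := by group
      _ = b * (b * ⟨a, h.aS⟩) * ⟨a, h.aS⟩ := by rw [C.bc]
      _ = (b * b) * (⟨a, h.aS⟩ * ⟨a, h.aS⟩) := by group
      _ = 1 := by rw [C.bb, C.aa, one_mul]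
  have nab : ¬ IsConj a (b : G) := by
    intro h3
    exact C.ab_ne (C.eq_of_conj (z := ⟨a, h.aS⟩) C.aa C.ac C.bc h3)
  have naab : ¬ IsConj a (a * (b : G)) := by
    intro h3
    rw [hab] at h3
    have h4 := C.eq_of_conj (z := ⟨a, h.aS⟩) (z' := b * ⟨a, h.aS⟩) C.aa C.ac hbac h3
    exact C.b1 (mul_eq_right.mp h4.symm)
  have nbab : ¬ IsConj (b : G) (a * (b : G)) := by
    intro h3
    rw [hab] at h3
    have h4 := C.eq_of_conj (z := b) (z' := b * ⟨a, h.aS⟩) C.bb C.bc hbac h3
    exact C.a1 (mul_eq_left.mp h4.symm)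
  -- `T_x` is Sylow in `C(x)`
  have syl : IsSyl (centralizer ({x} : Set G)) (S ⊓ centralizer ({x} : Set G)) := by
    refine ⟨h.sx.two, inf_le_right, fun R hR hRC hTR => ?_⟩
    by_contra hne
    have hnle : ¬ R ≤ S ⊓ centralizer ({x} : Set G) := fun h3 => hne (le_antisymm h3 hTR)
    obtain ⟨u, huR, huT, hu1, hu2⟩ := exists_norm hR hTR hnle
    have hux : u * x = x * u := mem_centralizer_singleton_iff.mp (hRC huR)
    have haT : a ∈ S ⊓ centralizer ({x} : Set G) :=
      ⟨h.aS, mem_centralizer_singleton_iff.mpr h.T.comm⟩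
    have hau := hu1 a haT
    have hau2 : u * a * u⁻¹ * (u * a * u⁻¹) = 1 := by
      calc u * a * u⁻¹ * (u * a * u⁻¹) = u * (a * a) * u⁻¹ := by group
        _ = 1 := by rw [haa]; group
    have hconj : IsConj a (u * a * u⁻¹) := isConj_iff.mpr ⟨u, rfl⟩
    have h3 : u * a * u⁻¹ = a := by
      rcases zt (u * a * u⁻¹) hau.1 (mem_centralizer_singleton_iff.mp hau.2) hau2 (Xn.conj_mem a aX u) (by
        intro s hs hsx
        have h4 := hu2 s ⟨hs, mem_centralizer_singleton_iff.mpr hsx⟩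
        have h5 := mem_centralizer_singleton_iff.mp (h.SC h4.1)
        calc s * (u * a * u⁻¹) = u * ((u⁻¹ * s * u) * a) * u⁻¹ := by group
          _ = u * (a * (u⁻¹ * s * u)) * u⁻¹ := by rw [h5]
          _ = _ := by group) with h4 | h4 | h4 | h4
      · exfalso
        apply ha1
        calc a = u⁻¹ * (u * a * u⁻¹) * u := by group
          _ = 1 := by rw [h4]; group
      · exact h4
      · exact absurd (h4 ▸ hconj) nab
      · exact absurd (h4 ▸ hconj) naab
    have hua : u * a = a * u := by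
      calc u * a = u * a * u⁻¹ * u := by group
        _ = a * u := by rw [h3]
    have huN := h.norm_ax kf hua hux
    -- `T_x ⟨u⟩`
    apply huT
    have h4 : IsPGroup 2 ↥((S ⊓ centralizer ({x} : Set G)) ⊔ zpowers u : Subgroup G) :=
      hR.to_le (sup_le hTR (by rw [zpowers_le]; exact huR))
    have h5 := h.sx.max _ h4 (sup_le h.sx.le (by
      rw [zpowers_le]
      exact ⟨⟨mem_centralizer_singleton_iff.mpr hua, huN⟩, mem_centralizer_singleton_iff.mpr hux⟩)) le_sup_left
    rw [← h5]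
    exact mem_sup_right (mem_zpowers u)
  -- rank
  have rank : ∀ E : Subgroup G, E ≤ centralizer ({x} : Set G) → (∀ e ∈ E, e * e = 1) →
      Nat.card ↥E ≤ 16 := by
    intro E hE hee
    have h3 : IsPGroup 2 ↥E := fun e => ⟨1, Subtype.ext (by
      change (e : G) ^ 2 ^ 1 = 1
      rw [pow_one, pow_two]; exact hee e e.2)⟩
    obtain ⟨g, hg, hgE⟩ := syl.conj h3 hE
    -- `E' = g⁻¹ E g ≤ S`
    have h4 : cj g⁻¹ E ≤ S ⊓ centralizer ({x} : Set G) := by
      have := cj_mono (g := g⁻¹) hgE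
      rwa [cj_inv_cj] at this
    rw [← card_cj g⁻¹ E]
    have h5 : Nat.card ↥(cj g⁻¹ E) = Nat.card ↥((cj g⁻¹ E).subgroupOf S) := by
      rw [← card_map_of_injective S.subtype_injective, subgroupOf_map_subtype,
        inf_of_le_left (h4.trans inf_le_left)]
    rw [h5]
    have hsq : ∀ e ∈ cj g⁻¹ E, e * e = 1 := by
      intro e he
      rw [mem_cj, inv_inv] at he
      have h6 := hee _ he
      calc e * e = g⁻¹ * (g * e * g⁻¹ * (g * e * g⁻¹)) * g := by group
        _ = 1 := by rw [h6]; group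
    apply C.card_le
    · refine ⟨fun v hv => Subtype.ext (hsq v hv), fun v hv w hw => ?_⟩
      apply Subtype.ext
      have hv' : (v : G) ∈ cj g⁻¹ E := hv
      have hw' : (w : G) ∈ cj g⁻¹ E := hw
      have h6 := hsq _ (mul_mem hv' hw')
      have h7 := hsq _ hv'
      have h8 := hsq _ hw'
      have e1 : (v : G)⁻¹ = v := inv_eq_of_mul_eq_one_left h7
      have e2 : (w : G)⁻¹ = w := inv_eq_of_mul_eq_one_left h8
      have e3 : ((v : G) * w)⁻¹ = v * w := inv_eq_of_mul_eq_one_left h6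
      change (v : G) * w = w * v
      rw [← e3, mul_inv_rev, e1, e2]
    · intro v hv
      have hv' : (v : G) ∈ cj g⁻¹ E := hv
      exact Subtype.ext (mem_centralizer_singleton_iff.mp (h4 hv').2)
  -- `Q₈`
  have w8 : 8 ≤ Nat.card ↥(S ⊓ centralizer ({x} : Set G) ⊓ L) := by
    obtain ⟨b', hb'P, hb', H⟩ := L34T2.FrMod.exists_fr C.mod h.S2
    have h3 := H.card8 x h.xS (by
      rw [hxx]; exact one_mem _) (by
      intro h4
      have h5 := (L34T2.FrMod.cenZ_iff C.mod (y := ⟨x, h.xS⟩)).mp h4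
      rw [C.hx] at h5
      exact absurd h5 (by decide))
    rw [← h3]
    refine Nat.card_le_card_of_injective
      (fun p : {p : G // p ∈ (L.subgroupOf S).map S.subtype ∧ x * p = p * x} =>
        (⟨p.1, ?_⟩ : ↥(S ⊓ centralizer ({x} : Set G) ⊓ L))) ?_
    · obtain ⟨⟨p', hpS⟩, hpL, hpe⟩ := p.2.1
      have h4 := p.2.2
      rw [← hpe] at h4
      rw [← hpe]
      refine ⟨⟨hpS, ?_⟩, hpL⟩
      exact mem_centralizer_singleton_iff.mpr h4.symm
    · intro p p' hpp
      have h4 : (p : G) = p' := congrArg (fun z : ↥(S ⊓ centralizer ({x} : Set G) ⊓ L) => (z : G)) hpp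
      exact Subtype.ext h4
  exact ⟨b,
    { Xn := Xn
      sim := sim
      xX := xX
      two := two
      cf := cf
      typ := typ
      T := h.T
      aX := aX
      l34 := h.l34
      S2 := h.S2
      SC := h.SC
      SL := h.SN
      xS := h.xS
      syl := syl
      bS := b.2
      bL := hbL
      b2 := orderOf_eq_prime (by rw [pow_two, hbb]) hb1
      bc := fun s hs => congrArg Subtype.val (C.bc ⟨s, hs⟩)
      zt := zt
      nab := nab
      naab := naab
      nbab := nbab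
      uniq := fun k h3 h4 h5 h6 h7 => h.uniq_all h3 h4 h5 h6 h7
      rank := rank
      w8 := w8 }⟩

end Cfsg.Agent.UGT.LSup
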